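/-
Closed paths among the derived equations, found by a computer search.
-/
import Cfsg.Agent.Lib.Spor.Fi24Pres.CX.Data
import Cfsg.Agent.Lib.Spor.TC.CheckWide

namespace CfsgLib.Spor.Fi24

open CfsgLib.Spor.TC

set_option maxRecDepth 100000

def loopWord0 : List ℕ := [4]

def loopPath0 : List ℕ := [7]

theorem loop0_ok : CX.cert.pathOK 59213 loopPath0 loopWord0 = true := by decide +kernel

def loopWord1 : List ℕ := [5]

def loopPath1 : List ℕ := [9]

theorem loop1_ok : CX.cert.pathOK 59213 loopPath1 loopWord1 = true := by decide +kernel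

def loopWord2 : List ℕ := [6]

def loopPath2 : List ℕ := [11]

theorem loop2_ok : CX.cert.pathOK 59213 loopPath2 loopWord2 = true := by decide +kernel

def loopWord3 : List ℕ := [7]

def loopPath3 : List ℕ := [13]

theorem loop3_ok : CX.cert.pathOK 59213 loopPath3 loopWord3 = true := by decide +kernel

def loopWord4 : List ℕ := [8]

def loopPath4 : List ℕ := [15]

theorem loop4_ok : CX.cert.pathOK 59213 loopPath4 loopWord4 = true := by decide +kernel

def loopWord5 : List ℕ := [9]

def loopPath5 : List ℕ := [17]

theorem loop5_ok : CX.cert.pathOK 59213 loopPath5 loopWord5 = true := by decide +kernel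

def loopWord6 : List ℕ := [10]

def loopPath6 : List ℕ := [19]

theorem loop6_ok : CX.cert.pathOK 59213 loopPath6 loopWord6 = true := by decide +kernel

def loopWord7 : List ℕ := [11]

def loopPath7 : List ℕ := [21]

theorem loop7_ok : CX.cert.pathOK 59213 loopPath7 loopWord7 = true := by decide +kernel

def loopWord8 : List ℕ := [0]

def loopPath8 : List ℕ := [1]

theorem loop8_ok : CX.cert.pathOK 59213 loopPath8 loopWord8 = true := by decide +kernel

def loopWord9 : List ℕ := [1, 1]

def loopPath9 : List ℕ := [22, 23]

theorem loop9_ok : CX.cert.pathOK 59213 loopPath9 loopWord9 = true := by decide +kernel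

def loopWord10 : List ℕ := [2]

def loopPath10 : List ℕ := [3]

theorem loop10_ok : CX.cert.pathOK 59213 loopPath10 loopWord10 = true := by decide +kernel

def loopWord11 : List ℕ := [1, 4, 1]

def loopPath11 : List ℕ := [22, 27, 23]

theorem loop11_ok : CX.cert.pathOK 59213 loopPath11 loopWord11 = true := by decide +kernel

def loopWord12 : List ℕ := [1, 5, 1]

def loopPath12 : List ℕ := [22, 29, 23]

theorem loop12_ok : CX.cert.pathOK 59213 loopPath12 loopWord12 = true := by decide +kernel

def loopWord13 : List ℕ := [1, 6, 1]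

def loopPath13 : List ℕ := [22, 31, 23]

theorem loop13_ok : CX.cert.pathOK 59213 loopPath13 loopWord13 = true := by decide +kernel

def loopWord14 : List ℕ := [1, 7, 1]

def loopPath14 : List ℕ := [22, 33, 23]

theorem loop14_ok : CX.cert.pathOK 59213 loopPath14 loopWord14 = true := by decide +kernel

def loopWord15 : List ℕ := [1, 8, 1]

def loopPath15 : List ℕ := [22, 35, 23]

theorem loop15_ok : CX.cert.pathOK 59213 loopPath15 loopWord15 = true := by decide +kernel

def loopWord16 : List ℕ := [1, 9, 1]

def loopPath16 : List ℕ := [22, 37, 23]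

theorem loop16_ok : CX.cert.pathOK 59213 loopPath16 loopWord16 = true := by decide +kernel

def loopWord17 : List ℕ := [1, 10, 1]

def loopPath17 : List ℕ := [22, 39, 23]

theorem loop17_ok : CX.cert.pathOK 59213 loopPath17 loopWord17 = true := by decide +kernel

def loopWord18 : List ℕ := [1, 11, 1]

def loopPath18 : List ℕ := [22, 41, 23]

theorem loop18_ok : CX.cert.pathOK 59213 loopPath18 loopWord18 = true := by decide +kernel

def loopWord19 : List ℕ := [1, 0, 0, 1]

def loopPath19 : List ℕ := [22, 42, 43, 23]

theorem loop19_ok : CX.cert.pathOK 59213 loopPath19 loopWord19 = true := by decide +kernel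

def loopWord20 : List ℕ := [1, 1]

def loopPath20 : List ℕ := [22, 23]

theorem loop20_ok : CX.cert.pathOK 59213 loopPath20 loopWord20 = true := by decide +kernel

def loopWord21 : List ℕ := [1, 2, 2, 1]

def loopPath21 : List ℕ := [22, 64, 65, 23]

theorem loop21_ok : CX.cert.pathOK 59213 loopPath21 loopWord21 = true := by decide +kernel

def loopWord22 : List ℕ := [1, 0, 4, 0, 1]

def loopPath22 : List ℕ := [22, 42, 49, 43, 23]

theorem loop22_ok : CX.cert.pathOK 59213 loopPath22 loopWord22 = true := by decide +kernel

def loopWord23 : List ℕ := [1, 0, 5, 0, 1]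

def loopPath23 : List ℕ := [22, 42, 51, 43, 23]

theorem loop23_ok : CX.cert.pathOK 59213 loopPath23 loopWord23 = true := by decide +kernel

def loopWord24 : List ℕ := [1, 0, 6, 0, 1]

def loopPath24 : List ℕ := [22, 42, 53, 43, 23]

theorem loop24_ok : CX.cert.pathOK 59213 loopPath24 loopWord24 = true := by decide +kernel

def loopWord25 : List ℕ := [1, 0, 7, 0, 1]

def loopPath25 : List ℕ := [22, 42, 55, 43, 23]

theorem loop25_ok : CX.cert.pathOK 59213 loopPath25 loopWord25 = true := by decide +kernel

def loopWord26 : List ℕ := [1, 0, 8, 0, 1]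

def loopPath26 : List ℕ := [22, 42, 57, 43, 23]

theorem loop26_ok : CX.cert.pathOK 59213 loopPath26 loopWord26 = true := by decide +kernel

def loopWord27 : List ℕ := [1, 0, 9, 0, 1]

def loopPath27 : List ℕ := [22, 42, 59, 43, 23]

theorem loop27_ok : CX.cert.pathOK 59213 loopPath27 loopWord27 = true := by decide +kernel

def loopWord28 : List ℕ := [1, 0, 10, 0, 1]

def loopPath28 : List ℕ := [22, 42, 61, 43, 23]

theorem loop28_ok : CX.cert.pathOK 59213 loopPath28 loopWord28 = true := by decide +kernel

def loopWord29 : List ℕ := [1, 0, 11, 0, 1]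

def loopPath29 : List ℕ := [22, 42, 63, 43, 23]

theorem loop29_ok : CX.cert.pathOK 59213 loopPath29 loopWord29 = true := by decide +kernel

def loopWord30 : List ℕ := [1, 0, 0, 1]

def loopPath30 : List ℕ := [22, 42, 43, 23]

theorem loop30_ok : CX.cert.pathOK 59213 loopPath30 loopWord30 = true := by decide +kernel

def loopWord31 : List ℕ := [1, 0, 1, 0, 1]

def loopPath31 : List ℕ := [22, 42, 45, 43, 23]

theorem loop31_ok : CX.cert.pathOK 59213 loopPath31 loopWord31 = true := by decide +kernel

def loopWord32 : List ℕ := [1, 0, 2, 2, 0, 1]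

def loopPath32 : List ℕ := [22, 42, 84, 85, 43, 23]

theorem loop32_ok : CX.cert.pathOK 59213 loopPath32 loopWord32 = true := by decide +kernel

def loopWord33 : List ℕ := [1, 2, 4, 2, 1]

def loopPath33 : List ℕ := [22, 64, 69, 65, 23]

theorem loop33_ok : CX.cert.pathOK 59213 loopPath33 loopWord33 = true := by decide +kernel

def loopWord34 : List ℕ := [1, 2, 5, 2, 1]

def loopPath34 : List ℕ := [22, 64, 71, 65, 23]

theorem loop34_ok : CX.cert.pathOK 59213 loopPath34 loopWord34 = true := by decide +kernel

def loopWord35 : List ℕ := [1, 2, 6, 2, 1]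

def loopPath35 : List ℕ := [22, 64, 73, 65, 23]

theorem loop35_ok : CX.cert.pathOK 59213 loopPath35 loopWord35 = true := by decide +kernel

def loopWord36 : List ℕ := [1, 2, 7, 2, 1]

def loopPath36 : List ℕ := [22, 64, 75, 65, 23]

theorem loop36_ok : CX.cert.pathOK 59213 loopPath36 loopWord36 = true := by decide +kernel

def loopWord37 : List ℕ := [1, 2, 8, 2, 1]

def loopPath37 : List ℕ := [22, 64, 77, 65, 23]

theorem loop37_ok : CX.cert.pathOK 59213 loopPath37 loopWord37 = true := by decide +kernel

def loopWord38 : List ℕ := [1, 2, 9, 2, 1]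

def loopPath38 : List ℕ := [22, 64, 79, 65, 23]

theorem loop38_ok : CX.cert.pathOK 59213 loopPath38 loopWord38 = true := by decide +kernel

def loopWord39 : List ℕ := [1, 2, 10, 2, 1]

def loopPath39 : List ℕ := [22, 64, 81, 65, 23]

theorem loop39_ok : CX.cert.pathOK 59213 loopPath39 loopWord39 = true := by decide +kernel

end CfsgLib.Spor.Fi24
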