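/-
Closed paths among the derived equations, found by a computer search.
-/
import Cfsg.Agent.Lib.Spor.Fi24Pres.CX.Data
import Cfsg.Agent.Lib.Spor.TC.CheckWide

namespace CfsgLib.Spor.Fi24

open CfsgLib.Spor.TC

set_option maxRecDepth 100000

def loopWord40 : List ℕ := [1, 2, 11, 2, 1]

def loopPath40 : List ℕ := [22, 64, 83, 65, 23]

theorem loop40_ok : CX.cert.pathOK 59213 loopPath40 loopWord40 = true := by decide +kernel

def loopWord41 : List ℕ := [1, 2, 0, 2, 0, 1]

def loopPath41 : List ℕ := [22, 64, 87, 85, 43, 23]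

theorem loop41_ok : CX.cert.pathOK 59213 loopPath41 loopWord41 = true := by decide +kernel

def loopWord42 : List ℕ := [1, 2, 1, 2, 1]

def loopPath42 : List ℕ := [22, 64, 67, 65, 23]

theorem loop42_ok : CX.cert.pathOK 59213 loopPath42 loopWord42 = true := by decide +kernel

def loopWord43 : List ℕ := [1, 2, 2, 1]

def loopPath43 : List ℕ := [22, 64, 65, 23]

theorem loop43_ok : CX.cert.pathOK 59213 loopPath43 loopWord43 = true := by decide +kernel

def loopWord44 : List ℕ := [1, 0, 2, 4, 2, 0, 1]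

def loopPath44 : List ℕ := [22, 42, 84, 89, 85, 43, 23]

theorem loop44_ok : CX.cert.pathOK 59213 loopPath44 loopWord44 = true := by decide +kernel

def loopWord45 : List ℕ := [1, 0, 2, 5, 2, 0, 1]

def loopPath45 : List ℕ := [22, 42, 84, 91, 85, 43, 23]

theorem loop45_ok : CX.cert.pathOK 59213 loopPath45 loopWord45 = true := by decide +kernel

def loopWord46 : List ℕ := [1, 0, 2, 6, 2, 0, 1]

def loopPath46 : List ℕ := [22, 42, 84, 93, 85, 43, 23]

theorem loop46_ok : CX.cert.pathOK 59213 loopPath46 loopWord46 = true := by decide +kernel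

def loopWord47 : List ℕ := [1, 0, 2, 7, 2, 0, 1]

def loopPath47 : List ℕ := [22, 42, 84, 95, 85, 43, 23]

theorem loop47_ok : CX.cert.pathOK 59213 loopPath47 loopWord47 = true := by decide +kernel

def loopWord48 : List ℕ := [1, 0, 2, 8, 2, 0, 1]

def loopPath48 : List ℕ := [22, 42, 84, 97, 85, 43, 23]

theorem loop48_ok : CX.cert.pathOK 59213 loopPath48 loopWord48 = true := by decide +kernel

def loopWord49 : List ℕ := [1, 0, 2, 9, 2, 0, 1]

def loopPath49 : List ℕ := [22, 42, 84, 99, 85, 43, 23]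

theorem loop49_ok : CX.cert.pathOK 59213 loopPath49 loopWord49 = true := by decide +kernel

def loopWord50 : List ℕ := [1, 0, 2, 10, 2, 0, 1]

def loopPath50 : List ℕ := [22, 42, 84, 101, 85, 43, 23]

theorem loop50_ok : CX.cert.pathOK 59213 loopPath50 loopWord50 = true := by decide +kernel

def loopWord51 : List ℕ := [1, 0, 2, 11, 2, 0, 1]

def loopPath51 : List ℕ := [22, 42, 84, 103, 85, 43, 23]

theorem loop51_ok : CX.cert.pathOK 59213 loopPath51 loopWord51 = true := by decide +kernel

def loopWord52 : List ℕ := [1, 0, 2, 0, 2, 1]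

def loopPath52 : List ℕ := [22, 42, 84, 86, 65, 23]

theorem loop52_ok : CX.cert.pathOK 59213 loopPath52 loopWord52 = true := by decide +kernel

def loopWord53 : List ℕ := [1, 0, 2, 1, 1, 2, 0, 1]

def loopPath53 : List ℕ := [22, 42, 84, 124, 125, 85, 43, 23]

theorem loop53_ok : CX.cert.pathOK 59213 loopPath53 loopWord53 = true := by decide +kernel

def loopWord54 : List ℕ := [1, 0, 2, 2, 0, 1]

def loopPath54 : List ℕ := [22, 42, 84, 85, 43, 23]

theorem loop54_ok : CX.cert.pathOK 59213 loopPath54 loopWord54 = true := by decide +kernel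

def loopWord55 : List ℕ := [1, 2, 3, 6, 3, 2, 1]

def loopPath55 : List ℕ := [22, 64, 104, 113, 105, 65, 23]

theorem loop55_ok : CX.cert.pathOK 59213 loopPath55 loopWord55 = true := by decide +kernel

def loopWord56 : List ℕ := [1, 2, 3, 9, 3, 2, 1]

def loopPath56 : List ℕ := [22, 64, 104, 119, 105, 65, 23]

theorem loop56_ok : CX.cert.pathOK 59213 loopPath56 loopWord56 = true := by decide +kernel

def loopWord57 : List ℕ := [1, 2, 3, 10, 3, 2, 1]

def loopPath57 : List ℕ := [22, 64, 104, 121, 105, 65, 23]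

theorem loop57_ok : CX.cert.pathOK 59213 loopPath57 loopWord57 = true := by decide +kernel

def loopWord58 : List ℕ := [1, 2, 3, 11, 3, 2, 1]

def loopPath58 : List ℕ := [22, 64, 104, 123, 105, 65, 23]

theorem loop58_ok : CX.cert.pathOK 59213 loopPath58 loopWord58 = true := by decide +kernel

def loopWord59 : List ℕ := [1, 2, 3, 4, 5, 6, 7, 10, 5, 6, 4, 5, 8, 7, 6, 10, 5, 11, 10, 4, 5, 4, 6, 5, 10, 11, 7, 6, 5, 4, 8, 7, 6, 5, 10, 11, 5, 4, 6, 5, 10, 7, 6, 5, 4, 3, 2, 1]

def loopPath59 : List ℕ := [22, 64, 104, 166, 226, 304, 388, 522, 684, 888, 1157, 1514, 1911, 2518, 3482, 4548, 5920, 7674, 9810, 12377, 15448, 19156, 109841, 24613, 32144, 24276, 19669, 15848, 12710, 10056, 7881, 6091, 4693, 3607, 2637, 1985, 1515, 1156, 889, 685, 523, 389, 305, 227, 167, 105, 65, 23]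

theorem loop59_ok : CX.cert.pathOK 59213 loopPath59 loopWord59 = true := by decide +kernel

def loopWord60 : List ℕ := [1, 2, 3, 0, 3, 2, 0, 1]

def loopPath60 : List ℕ := [22, 64, 104, 149, 147, 85, 43, 23]

theorem loop60_ok : CX.cert.pathOK 59213 loopPath60 loopWord60 = true := by decide +kernel

def loopWord61 : List ℕ := [1, 2, 3, 1, 3, 2, 1]

def loopPath61 : List ℕ := [22, 64, 104, 107, 105, 65, 23]

theorem loop61_ok : CX.cert.pathOK 59213 loopPath61 loopWord61 = true := by decide +kernel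

def loopWord62 : List ℕ := [1, 2, 3, 2, 3, 2, 1]

def loopPath62 : List ℕ := [22, 64, 104, 109, 105, 65, 23]

theorem loop62_ok : CX.cert.pathOK 59213 loopPath62 loopWord62 = true := by decide +kernel

def loopWord63 : List ℕ := [1, 0, 2, 1, 4, 1, 2, 0, 1]

def loopPath63 : List ℕ := [22, 42, 84, 124, 131, 125, 85, 43, 23]

theorem loop63_ok : CX.cert.pathOK 59213 loopPath63 loopWord63 = true := by decide +kernel

def loopWord64 : List ℕ := [1, 0, 2, 1, 5, 1, 2, 0, 1]

def loopPath64 : List ℕ := [22, 42, 84, 124, 133, 125, 85, 43, 23]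

theorem loop64_ok : CX.cert.pathOK 59213 loopPath64 loopWord64 = true := by decide +kernel

def loopWord65 : List ℕ := [1, 0, 2, 1, 6, 1, 2, 0, 1]

def loopPath65 : List ℕ := [22, 42, 84, 124, 135, 125, 85, 43, 23]

theorem loop65_ok : CX.cert.pathOK 59213 loopPath65 loopWord65 = true := by decide +kernel

def loopWord66 : List ℕ := [1, 0, 2, 1, 7, 1, 2, 0, 1]

def loopPath66 : List ℕ := [22, 42, 84, 124, 137, 125, 85, 43, 23]

theorem loop66_ok : CX.cert.pathOK 59213 loopPath66 loopWord66 = true := by decide +kernel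

def loopWord67 : List ℕ := [1, 0, 2, 1, 8, 1, 2, 0, 1]

def loopPath67 : List ℕ := [22, 42, 84, 124, 139, 125, 85, 43, 23]

theorem loop67_ok : CX.cert.pathOK 59213 loopPath67 loopWord67 = true := by decide +kernel

def loopWord68 : List ℕ := [1, 0, 2, 1, 9, 1, 2, 0, 1]

def loopPath68 : List ℕ := [22, 42, 84, 124, 141, 125, 85, 43, 23]

theorem loop68_ok : CX.cert.pathOK 59213 loopPath68 loopWord68 = true := by decide +kernel

def loopWord69 : List ℕ := [1, 0, 2, 1, 10, 1, 2, 0, 1]

def loopPath69 : List ℕ := [22, 42, 84, 124, 143, 125, 85, 43, 23]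

theorem loop69_ok : CX.cert.pathOK 59213 loopPath69 loopWord69 = true := by decide +kernel

def loopWord70 : List ℕ := [1, 0, 2, 1, 11, 1, 2, 0, 1]

def loopPath70 : List ℕ := [22, 42, 84, 124, 145, 125, 85, 43, 23]

theorem loop70_ok : CX.cert.pathOK 59213 loopPath70 loopWord70 = true := by decide +kernel

def loopWord71 : List ℕ := [1, 0, 2, 1, 0, 1, 2, 0, 1]

def loopPath71 : List ℕ := [22, 42, 84, 124, 127, 125, 85, 43, 23]

theorem loop71_ok : CX.cert.pathOK 59213 loopPath71 loopWord71 = true := by decide +kernel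

def loopWord72 : List ℕ := [1, 0, 2, 1, 1, 2, 0, 1]

def loopPath72 : List ℕ := [22, 42, 84, 124, 125, 85, 43, 23]

theorem loop72_ok : CX.cert.pathOK 59213 loopPath72 loopWord72 = true := by decide +kernel

def loopWord73 : List ℕ := [1, 0, 2, 1, 2, 1, 2, 0, 1]

def loopPath73 : List ℕ := [22, 42, 84, 124, 129, 125, 85, 43, 23]

theorem loop73_ok : CX.cert.pathOK 59213 loopPath73 loopWord73 = true := by decide +kernel

def loopWord74 : List ℕ := [1, 0, 2, 3, 6, 3, 2, 0, 1]

def loopPath74 : List ℕ := [22, 42, 84, 146, 155, 147, 85, 43, 23]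

theorem loop74_ok : CX.cert.pathOK 59213 loopPath74 loopWord74 = true := by decide +kernel

def loopWord75 : List ℕ := [1, 0, 2, 3, 9, 3, 2, 0, 1]

def loopPath75 : List ℕ := [22, 42, 84, 146, 161, 147, 85, 43, 23]

theorem loop75_ok : CX.cert.pathOK 59213 loopPath75 loopWord75 = true := by decide +kernel

def loopWord76 : List ℕ := [1, 0, 2, 3, 10, 3, 2, 0, 1]

def loopPath76 : List ℕ := [22, 42, 84, 146, 163, 147, 85, 43, 23]

theorem loop76_ok : CX.cert.pathOK 59213 loopPath76 loopWord76 = true := by decide +kernel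

def loopWord77 : List ℕ := [1, 0, 2, 3, 11, 3, 2, 0, 1]

def loopPath77 : List ℕ := [22, 42, 84, 146, 165, 147, 85, 43, 23]

theorem loop77_ok : CX.cert.pathOK 59213 loopPath77 loopWord77 = true := by decide +kernel

def loopWord78 : List ℕ := [1, 0, 2, 3, 4, 5, 6, 7, 10, 5, 6, 4, 5, 8, 7, 6, 10, 5, 11, 10, 4, 5, 4, 6, 5, 10, 11, 7, 6, 5, 4, 8, 7, 6, 5, 10, 11, 5, 4, 6, 5, 10, 7, 6, 5, 4, 3, 2, 0, 1]

def loopPath78 : List ℕ := [22, 42, 84, 146, 206, 286, 366, 478, 632, 822, 1082, 1405, 1832, 2333, 3070, 4148, 5416, 7044, 9052, 11474, 14317, 17750, 109902, 19965, 19941, 24561, 32129, 22441, 18168, 14682, 11762, 9287, 7243, 5591, 4299, 3329, 2417, 1833, 1404, 1083, 823, 633, 479, 367, 287, 207, 147, 85, 43, 23]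

theorem loop78_ok : CX.cert.pathOK 59213 loopPath78 loopWord78 = true := by decide +kernel

def loopWord79 : List ℕ := [1, 0, 2, 3, 0, 3, 2, 1]

def loopPath79 : List ℕ := [22, 42, 84, 146, 148, 105, 65, 23]

theorem loop79_ok : CX.cert.pathOK 59213 loopPath79 loopWord79 = true := by decide +kernel

end CfsgLib.Spor.Fi24
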