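/-
Closed paths among the derived equations, found by a computer search.
-/
import Cfsg.Agent.Lib.Spor.Fi24Pres.CX.Data
import Cfsg.Agent.Lib.Spor.TC.CheckWide

namespace CfsgLib.Spor.Fi24

open CfsgLib.Spor.TC

set_option maxRecDepth 100000

def loopWord80 : List ℕ := [1, 0, 2, 3, 1, 3, 1, 2, 0, 1]

def loopPath80 : List ℕ := [22, 42, 84, 146, 191, 187, 125, 85, 43, 23]

theorem loop80_ok : CX.cert.pathOK 59213 loopPath80 loopWord80 = true := by decide +kernel

def loopWord81 : List ℕ := [1, 0, 2, 3, 2, 3, 2, 0, 1]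

def loopPath81 : List ℕ := [22, 42, 84, 146, 151, 147, 85, 43, 23]

theorem loop81_ok : CX.cert.pathOK 59213 loopPath81 loopWord81 = true := by decide +kernel

def loopWord82 : List ℕ := [1, 0, 2, 1, 3, 6, 3, 1, 2, 0, 1]

def loopPath82 : List ℕ := [22, 42, 84, 124, 186, 195, 187, 125, 85, 43, 23]

theorem loop82_ok : CX.cert.pathOK 59213 loopPath82 loopWord82 = true := by decide +kernel

def loopWord83 : List ℕ := [1, 0, 2, 1, 3, 9, 3, 1, 2, 0, 1]

def loopPath83 : List ℕ := [22, 42, 84, 124, 186, 201, 187, 125, 85, 43, 23]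

theorem loop83_ok : CX.cert.pathOK 59213 loopPath83 loopWord83 = true := by decide +kernel

def loopWord84 : List ℕ := [1, 0, 2, 1, 3, 10, 3, 1, 2, 0, 1]

def loopPath84 : List ℕ := [22, 42, 84, 124, 186, 203, 187, 125, 85, 43, 23]

theorem loop84_ok : CX.cert.pathOK 59213 loopPath84 loopWord84 = true := by decide +kernel

def loopWord85 : List ℕ := [1, 0, 2, 1, 3, 11, 3, 1, 2, 0, 1]

def loopPath85 : List ℕ := [22, 42, 84, 124, 186, 205, 187, 125, 85, 43, 23]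

theorem loop85_ok : CX.cert.pathOK 59213 loopPath85 loopWord85 = true := by decide +kernel

def loopWord86 : List ℕ := [1, 0, 2, 1, 3, 4, 5, 6, 7, 10, 5, 6, 4, 5, 8, 7, 6, 10, 5, 11, 10, 4, 5, 4, 6, 5, 10, 11, 7, 6, 5, 4, 8, 7, 6, 5, 10, 11, 5, 4, 6, 5, 10, 7, 6, 5, 4, 3, 1, 2, 0, 1]

def loopPath86 : List ℕ := [22, 42, 84, 124, 186, 266, 348, 456, 586, 766, 1014, 1314, 1713, 2238, 2887, 3858, 5022, 6548, 8430, 10734, 13464, 16717, 109869, 19698, 16105, 16083, 19903, 24541, 24538, 32120, 17032, 13708, 10935, 8591, 6685, 5143, 3973, 2957, 2239, 1712, 1315, 1015, 767, 587, 457, 349, 267, 187, 125, 85, 43, 23]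

theorem loop86_ok : CX.cert.pathOK 59213 loopPath86 loopWord86 = true := by decide +kernel

def loopWord87 : List ℕ := [1, 0, 2, 1, 3, 0, 3, 1, 2, 0, 1]

def loopPath87 : List ℕ := [22, 42, 84, 124, 186, 189, 187, 125, 85, 43, 23]

theorem loop87_ok : CX.cert.pathOK 59213 loopPath87 loopWord87 = true := by decide +kernel

def loopWord88 : List ℕ := [1, 0, 2, 1, 3, 1, 3, 2, 0, 1]

def loopPath88 : List ℕ := [22, 42, 84, 124, 186, 190, 147, 85, 43, 23]

theorem loop88_ok : CX.cert.pathOK 59213 loopPath88 loopWord88 = true := by decide +kernel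

def loopWord89 : List ℕ := [1, 0, 2, 1, 3, 2, 2, 3, 1, 2, 0, 1]

def loopPath89 : List ℕ := [22, 42, 84, 124, 186, 244, 245, 187, 125, 85, 43, 23]

theorem loop89_ok : CX.cert.pathOK 59213 loopPath89 loopWord89 = true := by decide +kernel

def loopWord90 : List ℕ := [1, 0, 2, 1, 3, 2, 6, 2, 3, 1, 2, 0, 1]

def loopPath90 : List ℕ := [22, 42, 84, 124, 186, 244, 255, 245, 187, 125, 85, 43, 23]

theorem loop90_ok : CX.cert.pathOK 59213 loopPath90 loopWord90 = true := by decide +kernel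

def loopWord91 : List ℕ := [1, 0, 2, 1, 3, 2, 9, 2, 3, 1, 2, 0, 1]

def loopPath91 : List ℕ := [22, 42, 84, 124, 186, 244, 261, 245, 187, 125, 85, 43, 23]

theorem loop91_ok : CX.cert.pathOK 59213 loopPath91 loopWord91 = true := by decide +kernel

def loopWord92 : List ℕ := [1, 0, 2, 1, 3, 2, 10, 2, 3, 1, 2, 0, 1]

def loopPath92 : List ℕ := [22, 42, 84, 124, 186, 244, 263, 245, 187, 125, 85, 43, 23]

theorem loop92_ok : CX.cert.pathOK 59213 loopPath92 loopWord92 = true := by decide +kernel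

def loopWord93 : List ℕ := [1, 0, 2, 1, 3, 2, 11, 2, 3, 1, 2, 0, 1]

def loopPath93 : List ℕ := [22, 42, 84, 124, 186, 244, 265, 245, 187, 125, 85, 43, 23]

theorem loop93_ok : CX.cert.pathOK 59213 loopPath93 loopWord93 = true := by decide +kernel

def loopWord94 : List ℕ := [1, 0, 2, 1, 3, 2, 4, 5, 6, 7, 10, 5, 6, 4, 5, 8, 7, 6, 10, 5, 11, 10, 5, 4, 5, 6, 5, 10, 11, 7, 6, 5, 4, 8, 7, 6, 5, 10, 11, 5, 4, 6, 5, 10, 7, 6, 5, 4, 2, 3, 1, 2, 0, 1]

def loopPath94 : List ℕ := [22, 42, 84, 124, 186, 244, 328, 440, 566, 728, 966, 1248, 1638, 2123, 2792, 3689, 4768, 6188, 7990, 10186, 12846, 16010, 19848, 109785, 16113, 12935, 12907, 16053, 19887, 19884, 19922, 32116, 16136, 12965, 10299, 8079, 6265, 4831, 3727, 2793, 2122, 1639, 1249, 967, 729, 567, 441, 329, 245, 187, 125, 85, 43, 23]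

theorem loop94_ok : CX.cert.pathOK 59213 loopPath94 loopWord94 = true := by decide +kernel

def loopWord95 : List ℕ := [1, 0, 2, 1, 3, 2, 0, 2, 3, 1, 2, 0, 1]

def loopPath95 : List ℕ := [22, 42, 84, 124, 186, 244, 247, 245, 187, 125, 85, 43, 23]

theorem loop95_ok : CX.cert.pathOK 59213 loopPath95 loopWord95 = true := by decide +kernel

def loopWord96 : List ℕ := [1, 0, 2, 1, 3, 2, 1, 2, 3, 1, 2, 0, 1]

def loopPath96 : List ℕ := [22, 42, 84, 124, 186, 244, 249, 245, 187, 125, 85, 43, 23]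

theorem loop96_ok : CX.cert.pathOK 59213 loopPath96 loopWord96 = true := by decide +kernel

def loopWord97 : List ℕ := [1, 0, 2, 1, 3, 2, 2, 3, 1, 2, 0, 1]

def loopPath97 : List ℕ := [22, 42, 84, 124, 186, 244, 245, 187, 125, 85, 43, 23]

theorem loop97_ok : CX.cert.pathOK 59213 loopPath97 loopWord97 = true := by decide +kernel

def loopWord98 : List ℕ := [1, 0, 2, 1, 3, 2, 4, 3, 4, 3, 4, 2, 3, 1, 2, 0, 1]

def loopPath98 : List ℕ := [22, 42, 84, 124, 186, 244, 328, 418, 427, 419, 329, 245, 187, 125, 85, 43, 23]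

theorem loop98_ok : CX.cert.pathOK 59213 loopPath98 loopWord98 = true := by decide +kernel

def loopWord99 : List ℕ := [1, 0, 2, 1, 3, 2, 4, 3, 6, 3, 4, 2, 3, 1, 2, 0, 1]

def loopPath99 : List ℕ := [22, 42, 84, 124, 186, 244, 328, 418, 429, 419, 329, 245, 187, 125, 85, 43, 23]

theorem loop99_ok : CX.cert.pathOK 59213 loopPath99 loopWord99 = true := by decide +kernel

def loopWord100 : List ℕ := [1, 0, 2, 1, 3, 2, 4, 3, 7, 3, 4, 2, 3, 1, 2, 0, 1]

def loopPath100 : List ℕ := [22, 42, 84, 124, 186, 244, 328, 418, 431, 419, 329, 245, 187, 125, 85, 43, 23]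

theorem loop100_ok : CX.cert.pathOK 59213 loopPath100 loopWord100 = true := by decide +kernel

def loopWord101 : List ℕ := [1, 0, 2, 1, 3, 2, 4, 3, 8, 3, 4, 2, 3, 1, 2, 0, 1]

def loopPath101 : List ℕ := [22, 42, 84, 124, 186, 244, 328, 418, 433, 419, 329, 245, 187, 125, 85, 43, 23]

theorem loop101_ok : CX.cert.pathOK 59213 loopPath101 loopWord101 = true := by decide +kernel

def loopWord102 : List ℕ := [1, 0, 2, 1, 3, 2, 4, 3, 9, 3, 4, 2, 3, 1, 2, 0, 1]

def loopPath102 : List ℕ := [22, 42, 84, 124, 186, 244, 328, 418, 435, 419, 329, 245, 187, 125, 85, 43, 23]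

theorem loop102_ok : CX.cert.pathOK 59213 loopPath102 loopWord102 = true := by decide +kernel

def loopWord103 : List ℕ := [1, 0, 2, 1, 3, 2, 4, 3, 10, 3, 4, 2, 3, 1, 2, 0, 1]

def loopPath103 : List ℕ := [22, 42, 84, 124, 186, 244, 328, 418, 437, 419, 329, 245, 187, 125, 85, 43, 23]

theorem loop103_ok : CX.cert.pathOK 59213 loopPath103 loopWord103 = true := by decide +kernel

def loopWord104 : List ℕ := [1, 0, 2, 1, 3, 2, 4, 3, 11, 3, 4, 2, 3, 1, 2, 0, 1]

def loopPath104 : List ℕ := [22, 42, 84, 124, 186, 244, 328, 418, 439, 419, 329, 245, 187, 125, 85, 43, 23]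

theorem loop104_ok : CX.cert.pathOK 59213 loopPath104 loopWord104 = true := by decide +kernel

def loopWord105 : List ℕ := [1, 0, 2, 1, 3, 2, 4, 3, 5, 6, 4, 5, 10, 5, 4, 6, 5, 3, 4, 2, 3, 1, 2, 0, 1]

def loopPath105 : List ℕ := [22, 42, 84, 124, 186, 244, 328, 418, 552, 716, 933, 1190, 3223, 1191, 932, 717, 553, 419, 329, 245, 187, 125, 85, 43, 23]

theorem loop105_ok : CX.cert.pathOK 59213 loopPath105 loopWord105 = true := by decide +kernel

def loopWord106 : List ℕ := [1, 0, 2, 1, 3, 2, 4, 3, 0, 3, 4, 2, 3, 1, 2, 0, 1]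

def loopPath106 : List ℕ := [22, 42, 84, 124, 186, 244, 328, 418, 421, 419, 329, 245, 187, 125, 85, 43, 23]

theorem loop106_ok : CX.cert.pathOK 59213 loopPath106 loopWord106 = true := by decide +kernel

def loopWord107 : List ℕ := [1, 0, 2, 1, 3, 2, 4, 3, 1, 3, 4, 2, 3, 1, 2, 0, 1]

def loopPath107 : List ℕ := [22, 42, 84, 124, 186, 244, 328, 418, 423, 419, 329, 245, 187, 125, 85, 43, 23]

theorem loop107_ok : CX.cert.pathOK 59213 loopPath107 loopWord107 = true := by decide +kernel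

def loopWord108 : List ℕ := [1, 0, 2, 1, 3, 2, 4, 3, 2, 3, 4, 2, 3, 1, 2, 0, 1]

def loopPath108 : List ℕ := [22, 42, 84, 124, 186, 244, 328, 418, 425, 419, 329, 245, 187, 125, 85, 43, 23]

theorem loop108_ok : CX.cert.pathOK 59213 loopPath108 loopWord108 = true := by decide +kernel

def loopWord109 : List ℕ := [1, 2, 3, 4, 5, 6, 10, 5, 4, 3, 9, 3, 4, 5, 10, 6, 5, 4, 3, 2, 1]

def loopPath109 : List ℕ := [22, 64, 104, 166, 226, 304, 406, 536, 696, 910, 919, 911, 697, 537, 407, 305, 227, 167, 105, 65, 23]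

theorem loop109_ok : CX.cert.pathOK 59213 loopPath109 loopWord109 = true := by decide +kernel

def loopWord110 : List ℕ := [1, 2, 3, 4, 5, 6, 10, 5, 4, 3, 7, 6, 5, 10, 4, 5, 6, 7, 8, 7, 6, 5, 4, 10, 5, 6, 7, 3, 4, 5, 10, 6, 5, 4, 3, 2, 1]

def loopPath110 : List ℕ := [22, 64, 104, 166, 226, 304, 406, 536, 696, 910, 1151, 1500, 1960, 2610, 3149, 3143, 2373, 1820, 1423, 1821, 2372, 3142, 3148, 2611, 1961, 1501, 1150, 911, 697, 537, 407, 305, 227, 167, 105, 65, 23]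

theorem loop110_ok : CX.cert.pathOK 59213 loopPath110 loopWord110 = true := by decide +kernel

def loopWord111 : List ℕ := [1, 2, 3, 4, 5, 6, 10, 5, 4, 3, 7, 6, 5, 10, 4, 5, 6, 7, 11, 10, 5, 4, 6, 5, 10, 11, 3, 4, 5, 10, 6, 5, 4, 3, 2, 1]

def loopPath111 : List ℕ := [22, 64, 104, 166, 226, 304, 406, 536, 696, 910, 1151, 1500, 1960, 2610, 3149, 3143, 2373, 1820, 1856, 2436, 3342, 32485, 2655, 2011, 1551, 1183, 911, 697, 537, 407, 305, 227, 167, 105, 65, 23]

theorem loop111_ok : CX.cert.pathOK 59213 loopPath111 loopWord111 = true := by decide +kernel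

def loopWord112 : List ℕ := [1, 2, 3, 4, 5, 6, 10, 5, 4, 3, 7, 6, 5, 8, 7, 6, 9, 8, 7, 11, 10, 4, 5, 6, 7, 4, 5, 10, 5, 6, 11, 4, 5, 4, 8, 7, 6, 5, 10, 5, 4, 9, 8, 7, 6, 5, 4, 10, 11, 7, 8, 9, 6, 7, 8, 5, 6, 7, 3, 4, 5, 10, 6, 5, 4, 3, 2, 1]

def loopPath112 : List ℕ := [22, 64, 104, 166, 226, 304, 406, 536, 696, 910, 1151, 1500, 1960, 2501, 3440, 4490, 5667, 7352, 9418, 11914, 14828, 18283, 22592, 27716, 34530, 40837, 48051, 56308, 65667, 75841, 110659, 67002, 66619, 76875, 87021, 110691, 95044, 85980, 75913, 65732, 56312, 48061, 40841, 34531, 27717, 22593, 18282, 14829, 11915, 9419, 7353, 5666, 4491, 3441, 2500, 1961, 1501, 1150, 911, 697, 537, 407, 305, 227, 167, 105, 65, 23]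

theorem loop112_ok : CX.cert.pathOK 59213 loopPath112 loopWord112 = true := by decide +kernel

def loopWord113 : List ℕ := [1, 2, 3, 4, 5, 6, 10, 5, 4, 3, 0, 3, 4, 5, 10, 6, 5, 4, 3, 2, 0, 1]

def loopPath113 : List ℕ := [22, 64, 104, 166, 226, 304, 406, 536, 696, 910, 1093, 1091, 835, 645, 495, 367, 287, 207, 147, 85, 43, 23]

theorem loop113_ok : CX.cert.pathOK 59213 loopPath113 loopWord113 = true := by decide +kernel

def loopWord114 : List ℕ := [1, 2, 3, 4, 5, 6, 10, 5, 4, 3, 1, 3, 4, 5, 10, 6, 5, 4, 3, 2, 1]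

def loopPath114 : List ℕ := [22, 64, 104, 166, 226, 304, 406, 536, 696, 910, 913, 911, 697, 537, 407, 305, 227, 167, 105, 65, 23]

theorem loop114_ok : CX.cert.pathOK 59213 loopPath114 loopWord114 = true := by decide +kernel

def loopWord115 : List ℕ := [1, 2, 3, 4, 5, 6, 10, 5, 4, 3, 2, 7, 6, 5, 4, 10, 5, 6, 7, 3, 4, 5, 10, 6, 5, 4, 3, 2, 0, 1]

def loopPath115 : List ℕ := [22, 64, 104, 166, 226, 304, 406, 536, 696, 910, 1178, 1499, 1950, 2588, 3295, 3287, 2387, 1823, 1396, 1091, 835, 645, 495, 367, 287, 207, 147, 85, 43, 23]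

theorem loop115_ok : CX.cert.pathOK 59213 loopPath115 loopWord115 = true := by decide +kernel

def loopWord116 : List ℕ := [1, 0, 2, 3, 4, 5, 6, 10, 5, 4, 3, 9, 3, 4, 5, 10, 6, 5, 4, 3, 2, 0, 1]

def loopPath116 : List ℕ := [22, 42, 84, 146, 206, 286, 366, 494, 644, 834, 1090, 1097, 1091, 835, 645, 495, 367, 287, 207, 147, 85, 43, 23]

theorem loop116_ok : CX.cert.pathOK 59213 loopPath116 loopWord116 = true := by decide +kernel

def loopWord117 : List ℕ := [1, 0, 2, 3, 4, 5, 6, 10, 5, 4, 3, 7, 6, 5, 10, 4, 5, 6, 7, 8, 7, 6, 5, 4, 10, 5, 6, 7, 3, 4, 5, 10, 6, 5, 4, 3, 2, 0, 1]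

def loopPath117 : List ℕ := [22, 42, 84, 146, 206, 286, 366, 494, 644, 834, 1090, 1397, 1822, 2386, 3286, 3294, 2589, 1951, 1498, 1181, 1499, 1950, 2588, 3295, 3287, 2387, 1823, 1396, 1091, 835, 645, 495, 367, 287, 207, 147, 85, 43, 23]

theorem loop117_ok : CX.cert.pathOK 59213 loopPath117 loopWord117 = true := by decide +kernel

def loopWord118 : List ℕ := [1, 0, 2, 3, 4, 5, 6, 10, 5, 4, 3, 7, 6, 5, 10, 4, 5, 6, 7, 11, 10, 5, 4, 6, 5, 10, 11, 3, 4, 5, 10, 6, 5, 4, 3, 2, 0, 1]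

def loopPath118 : List ℕ := [22, 42, 84, 146, 206, 286, 366, 494, 644, 834, 1090, 1397, 1822, 2386, 3286, 3294, 2589, 1951, 1498, 1546, 2006, 2652, 32495, 3345, 2439, 1859, 1427, 1091, 835, 645, 495, 367, 287, 207, 147, 85, 43, 23]

theorem loop118_ok : CX.cert.pathOK 59213 loopPath118 loopWord118 = true := by decide +kernel

def loopWord119 : List ℕ := [1, 0, 2, 3, 4, 5, 6, 10, 5, 4, 3, 7, 6, 5, 8, 7, 6, 9, 8, 7, 11, 10, 4, 5, 6, 7, 4, 5, 10, 5, 6, 11, 4, 5, 4, 8, 7, 6, 5, 10, 5, 4, 9, 8, 7, 6, 5, 4, 10, 11, 7, 8, 9, 6, 7, 8, 5, 6, 7, 3, 4, 5, 10, 6, 5, 4, 3, 2, 0, 1]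

def loopPath119 : List ℕ := [22, 42, 84, 146, 206, 286, 366, 494, 644, 834, 1090, 1397, 1822, 2386, 3053, 4104, 5352, 6757, 8688, 11054, 13860, 17186, 21171, 26068, 32734, 38776, 45791, 53719, 62808, 72727, 82941, 110631, 73694, 73467, 83733, 93153, 110675, 100070, 92360, 83029, 72804, 62812, 53729, 45793, 38777, 32735, 26069, 21170, 17187, 13861, 11055, 8689, 6756, 5353, 4105, 3052, 2387, 1823, 1396, 1091, 835, 645, 495, 367, 287, 207, 147, 85, 43, 23]

theorem loop119_ok : CX.cert.pathOK 59213 loopPath119 loopWord119 = true := by decide +kernel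

end CfsgLib.Spor.Fi24
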