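/-
Closed paths among the derived equations, found by a computer search.
-/
import Cfsg.Agent.Lib.Spor.Fi24Pres.CX.Data
import Cfsg.Agent.Lib.Spor.TC.CheckWide

namespace CfsgLib.Spor.Fi24

open CfsgLib.Spor.TC

set_option maxRecDepth 100000

def loopWord120 : List ℕ := [1, 0, 2, 3, 4, 5, 6, 10, 5, 4, 3, 0, 3, 4, 5, 10, 6, 5, 4, 3, 2, 1]

def loopPath120 : List ℕ := [22, 42, 84, 146, 206, 286, 366, 494, 644, 834, 1090, 1092, 911, 697, 537, 407, 305, 227, 167, 105, 65, 23]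

theorem loop120_ok : CX.cert.pathOK 59213 loopPath120 loopWord120 = true := by decide +kernel

def loopWord121 : List ℕ := [1, 0, 2, 3, 4, 5, 6, 10, 5, 4, 3, 1, 3, 4, 5, 10, 6, 5, 4, 3, 1, 2, 0, 1]

def loopPath121 : List ℕ := [22, 42, 84, 146, 206, 286, 366, 494, 644, 834, 1090, 1335, 1331, 1025, 781, 605, 457, 349, 267, 187, 125, 85, 43, 23]

theorem loop121_ok : CX.cert.pathOK 59213 loopPath121 loopWord121 = true := by decide +kernel

def loopWord122 : List ℕ := [1, 0, 2, 3, 4, 5, 6, 10, 5, 4, 3, 2, 7, 6, 5, 4, 10, 5, 6, 7, 3, 4, 5, 10, 6, 5, 4, 3, 2, 1]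

def loopPath122 : List ℕ := [22, 42, 84, 146, 206, 286, 366, 494, 644, 834, 1090, 1418, 1821, 2372, 3142, 3148, 2611, 1961, 1501, 1150, 911, 697, 537, 407, 305, 227, 167, 105, 65, 23]

theorem loop122_ok : CX.cert.pathOK 59213 loopPath122 loopWord122 = true := by decide +kernel

def loopWord123 : List ℕ := [1, 0, 2, 1, 3, 4, 5, 6, 10, 5, 4, 3, 9, 3, 4, 5, 10, 6, 5, 4, 3, 1, 2, 0, 1]

def loopPath123 : List ℕ := [22, 42, 84, 124, 186, 266, 348, 456, 604, 780, 1024, 1330, 1339, 1331, 1025, 781, 605, 457, 349, 267, 187, 125, 85, 43, 23]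

theorem loop123_ok : CX.cert.pathOK 59213 loopPath123 loopWord123 = true := by decide +kernel

def loopWord124 : List ℕ := [1, 0, 2, 1, 3, 4, 5, 6, 10, 5, 4, 3, 7, 6, 5, 10, 4, 5, 6, 7, 8, 7, 6, 5, 4, 10, 5, 6, 7, 3, 4, 5, 10, 6, 5, 4, 3, 1, 2, 0, 1]

def loopPath124 : List ℕ := [22, 42, 84, 124, 186, 266, 348, 456, 604, 780, 1024, 1330, 1707, 2222, 2928, 3936, 3942, 3549, 2579, 1948, 1545, 1949, 2578, 3548, 3943, 3937, 2929, 2223, 1706, 1331, 1025, 781, 605, 457, 349, 267, 187, 125, 85, 43, 23]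

theorem loop124_ok : CX.cert.pathOK 59213 loopPath124 loopWord124 = true := by decide +kernel

def loopWord125 : List ℕ := [1, 0, 2, 1, 3, 4, 5, 6, 10, 5, 4, 3, 7, 6, 5, 10, 4, 5, 6, 7, 11, 10, 5, 4, 6, 5, 10, 11, 3, 4, 5, 10, 6, 5, 4, 3, 1, 2, 0, 1]

def loopPath125 : List ℕ := [22, 42, 84, 124, 186, 266, 348, 456, 604, 780, 1024, 1330, 1707, 2222, 2928, 3936, 3942, 3549, 2579, 1948, 2004, 2650, 3622, 32489, 3989, 2983, 2267, 1739, 1331, 1025, 781, 605, 457, 349, 267, 187, 125, 85, 43, 23]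

theorem loop125_ok : CX.cert.pathOK 59213 loopPath125 loopWord125 = true := by decide +kernel

def loopWord126 : List ℕ := [1, 0, 2, 1, 3, 4, 5, 6, 10, 5, 4, 3, 7, 6, 5, 8, 7, 6, 9, 8, 7, 11, 10, 4, 5, 6, 7, 4, 5, 10, 5, 6, 11, 4, 5, 4, 8, 7, 6, 5, 10, 5, 4, 9, 8, 7, 6, 5, 4, 10, 11, 7, 8, 9, 6, 7, 8, 5, 6, 7, 3, 4, 5, 10, 6, 5, 4, 3, 1, 2, 0, 1]

def loopPath126 : List ℕ := [22, 42, 84, 124, 186, 266, 348, 456, 604, 780, 1024, 1330, 1707, 2222, 2928, 3821, 4946, 6448, 8127, 10352, 13028, 16222, 20100, 24703, 30204, 37100, 43844, 51497, 60193, 69932, 80037, 89785, 110583, 81056, 80865, 90557, 98691, 110637, 103918, 98012, 89885, 80144, 69936, 60201, 51499, 43845, 37101, 30205, 24702, 20101, 16223, 13029, 10353, 8126, 6449, 4947, 3820, 2929, 2223, 1706, 1331, 1025, 781, 605, 457, 349, 267, 187, 125, 85, 43, 23]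

theorem loop126_ok : CX.cert.pathOK 59213 loopPath126 loopWord126 = true := by decide +kernel

def loopWord127 : List ℕ := [1, 0, 2, 1, 3, 4, 5, 6, 10, 5, 4, 3, 0, 3, 4, 5, 10, 6, 5, 4, 3, 1, 2, 0, 1]

def loopPath127 : List ℕ := [22, 42, 84, 124, 186, 266, 348, 456, 604, 780, 1024, 1330, 1333, 1331, 1025, 781, 605, 457, 349, 267, 187, 125, 85, 43, 23]

theorem loop127_ok : CX.cert.pathOK 59213 loopPath127 loopWord127 = true := by decide +kernel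

def loopWord128 : List ℕ := [1, 0, 2, 1, 3, 4, 5, 6, 10, 5, 4, 3, 1, 3, 4, 5, 10, 6, 5, 4, 3, 2, 0, 1]

def loopPath128 : List ℕ := [22, 42, 84, 124, 186, 266, 348, 456, 604, 780, 1024, 1330, 1334, 1091, 835, 645, 495, 367, 287, 207, 147, 85, 43, 23]

theorem loop128_ok : CX.cert.pathOK 59213 loopPath128 loopWord128 = true := by decide +kernel

def loopWord129 : List ℕ := [1, 0, 2, 1, 3, 4, 5, 6, 10, 5, 4, 3, 2, 3, 4, 5, 10, 6, 5, 4, 3, 1, 2, 0, 1]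

def loopPath129 : List ℕ := [22, 42, 84, 124, 186, 266, 348, 456, 604, 780, 1024, 1330, 3171, 1331, 1025, 781, 605, 457, 349, 267, 187, 125, 85, 43, 23]

theorem loop129_ok : CX.cert.pathOK 59213 loopPath129 loopWord129 = true := by decide +kernel

def loopWord130 : List ℕ := [1, 2, 3, 4, 5, 6, 7, 10, 5, 6, 11, 10, 5, 4, 3, 5, 6, 7, 10, 5, 6, 11, 10, 5, 4, 5, 10, 11, 6, 5, 10, 7, 6, 5, 3, 4, 5, 10, 11, 6, 5, 10, 7, 6, 5, 4, 3, 2, 1]

def loopPath130 : List ℕ := [22, 64, 104, 166, 226, 304, 388, 522, 684, 888, 1166, 1534, 1996, 2644, 3616, 4699, 6096, 7888, 10049, 12705, 15840, 31908, 17012, 13712, 10945, 13713, 17013, 31909, 15841, 12704, 10048, 7889, 6097, 4698, 3617, 2645, 1997, 1535, 1167, 889, 685, 523, 389, 305, 227, 167, 105, 65, 23]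

theorem loop130_ok : CX.cert.pathOK 59213 loopPath130 loopWord130 = true := by decide +kernel

def loopWord131 : List ℕ := [1, 2, 3, 4, 5, 6, 7, 10, 5, 6, 11, 10, 5, 4, 3, 5, 6, 4, 5, 7, 6, 10, 11, 5, 4, 10, 5, 3, 4, 5, 10, 11, 6, 5, 10, 7, 6, 5, 4, 3, 2, 1]

def loopPath131 : List ℕ := [22, 64, 104, 166, 226, 304, 388, 522, 684, 888, 1166, 1534, 1996, 2644, 3616, 4699, 6096, 7841, 10004, 32260, 11633, 11615, 11616, 9966, 7822, 6082, 4698, 3617, 2645, 1997, 1535, 1167, 889, 685, 523, 389, 305, 227, 167, 105, 65, 23]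

theorem loop131_ok : CX.cert.pathOK 59213 loopPath131 loopWord131 = true := by decide +kernel

def loopWord132 : List ℕ := [1, 2, 3, 4, 5, 6, 7, 10, 5, 6, 11, 10, 5, 4, 3, 5, 6, 7, 8, 7, 6, 5, 9, 8, 10, 5, 6, 7, 8, 11, 10, 5, 6, 7, 4, 5, 4, 10, 11, 6, 5, 4, 10, 6, 7, 8, 9, 5, 6, 7, 8, 3, 4, 5, 10, 11, 6, 5, 10, 7, 6, 5, 4, 3, 2, 1]

def loopPath132 : List ℕ := [22, 64, 104, 166, 226, 304, 388, 522, 684, 888, 1166, 1534, 1996, 2644, 3616, 4699, 6096, 7888, 10068, 12511, 15611, 19381, 24016, 28411, 35400, 41737, 109357, 57095, 57096, 48761, 41441, 35070, 35027, 35025, 34619, 40932, 48150, 56432, 110421, 49367, 41923, 35440, 28453, 23161, 18721, 15094, 12144, 9923, 7765, 5998, 4620, 3617, 2645, 1997, 1535, 1167, 889, 685, 523, 389, 305, 227, 167, 105, 65, 23]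

theorem loop132_ok : CX.cert.pathOK 59213 loopPath132 loopWord132 = true := by decide +kernel

def loopWord133 : List ℕ := [1, 2, 3, 4, 5, 6, 7, 10, 5, 6, 11, 10, 5, 4, 3, 0, 3, 4, 5, 10, 11, 6, 5, 10, 7, 6, 5, 4, 3, 2, 0, 1]

def loopPath133 : List ℕ := [22, 64, 104, 166, 226, 304, 388, 522, 684, 888, 1166, 1534, 1996, 2644, 3616, 4313, 4311, 3337, 2429, 1849, 1411, 1083, 823, 633, 479, 367, 287, 207, 147, 85, 43, 23]

theorem loop133_ok : CX.cert.pathOK 59213 loopPath133 loopWord133 = true := by decide +kernel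

def loopWord134 : List ℕ := [1, 2, 3, 4, 5, 6, 7, 10, 5, 6, 11, 10, 5, 4, 3, 1, 3, 4, 5, 10, 11, 6, 5, 10, 7, 6, 5, 4, 3, 2, 1]

def loopPath134 : List ℕ := [22, 64, 104, 166, 226, 304, 388, 522, 684, 888, 1166, 1534, 1996, 2644, 3616, 3619, 3617, 2645, 1997, 1535, 1167, 889, 685, 523, 389, 305, 227, 167, 105, 65, 23]

theorem loop134_ok : CX.cert.pathOK 59213 loopPath134 loopWord134 = true := by decide +kernel

def loopWord135 : List ℕ := [1, 2, 3, 4, 5, 6, 7, 10, 5, 6, 11, 10, 5, 4, 3, 2, 2, 3, 4, 5, 10, 11, 6, 5, 10, 7, 6, 5, 4, 3, 2, 1]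

def loopPath135 : List ℕ := [22, 64, 104, 166, 226, 304, 388, 522, 684, 888, 1166, 1534, 1996, 2644, 3616, 4704, 4705, 3617, 2645, 1997, 1535, 1167, 889, 685, 523, 389, 305, 227, 167, 105, 65, 23]

theorem loop135_ok : CX.cert.pathOK 59213 loopPath135 loopWord135 = true := by decide +kernel

def loopWord136 : List ℕ := [1, 0, 2, 3, 4, 5, 6, 7, 10, 5, 6, 11, 10, 5, 4, 3, 5, 6, 7, 10, 5, 6, 11, 10, 5, 4, 5, 10, 11, 6, 5, 10, 7, 6, 5, 3, 4, 5, 10, 11, 6, 5, 10, 7, 6, 5, 4, 3, 2, 0, 1]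

def loopPath136 : List ℕ := [22, 42, 84, 146, 206, 286, 366, 478, 632, 822, 1082, 1410, 1848, 2428, 3336, 4310, 5595, 7248, 9294, 11753, 14675, 31877, 16998, 13686, 10938, 8601, 10939, 13687, 16999, 31876, 14674, 11752, 9295, 7249, 5594, 4311, 3337, 2429, 1849, 1411, 1083, 823, 633, 479, 367, 287, 207, 147, 85, 43, 23]

theorem loop136_ok : CX.cert.pathOK 59213 loopPath136 loopWord136 = true := by decide +kernel

def loopWord137 : List ℕ := [1, 0, 2, 3, 4, 5, 6, 7, 10, 5, 6, 11, 10, 5, 4, 3, 5, 6, 4, 5, 7, 6, 10, 11, 5, 4, 10, 5, 3, 4, 5, 10, 11, 6, 5, 10, 7, 6, 5, 4, 3, 2, 0, 1]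

def loopPath137 : List ℕ := [22, 42, 84, 146, 206, 286, 366, 478, 632, 822, 1082, 1410, 1848, 2428, 3336, 4310, 5595, 7248, 9237, 11690, 32332, 9963, 9947, 11641, 11638, 9220, 7232, 5594, 4311, 3337, 2429, 1849, 1411, 1083, 823, 633, 479, 367, 287, 207, 147, 85, 43, 23]

theorem loop137_ok : CX.cert.pathOK 59213 loopPath137 loopWord137 = true := by decide +kernel

def loopWord138 : List ℕ := [1, 0, 2, 3, 4, 5, 6, 7, 10, 5, 6, 11, 10, 5, 4, 3, 5, 6, 7, 8, 7, 6, 5, 9, 8, 10, 5, 6, 7, 8, 11, 10, 5, 6, 7, 4, 5, 4, 10, 11, 6, 5, 4, 10, 6, 7, 8, 9, 5, 6, 7, 8, 3, 4, 5, 10, 11, 6, 5, 10, 7, 6, 5, 4, 3, 2, 0, 1]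

def loopPath138 : List ℕ := [22, 42, 84, 146, 206, 286, 366, 478, 632, 822, 1082, 1410, 1848, 2428, 3336, 4310, 5595, 7248, 9294, 11774, 14471, 17941, 22187, 27288, 33355, 39516, 46535, 109423, 63433, 63434, 54285, 46295, 39242, 39205, 39203, 38915, 45924, 53846, 62974, 110359, 54659, 46641, 39538, 33383, 26583, 21589, 17450, 14104, 11605, 9163, 7136, 5504, 4311, 3337, 2429, 1849, 1411, 1083, 823, 633, 479, 367, 287, 207, 147, 85, 43, 23]

theorem loop138_ok : CX.cert.pathOK 59213 loopPath138 loopWord138 = true := by decide +kernel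

def loopWord139 : List ℕ := [1, 0, 2, 3, 4, 5, 6, 7, 10, 5, 6, 11, 10, 5, 4, 3, 0, 3, 4, 5, 10, 11, 6, 5, 10, 7, 6, 5, 4, 3, 2, 1]

def loopPath139 : List ℕ := [22, 42, 84, 146, 206, 286, 366, 478, 632, 822, 1082, 1410, 1848, 2428, 3336, 4310, 4312, 3617, 2645, 1997, 1535, 1167, 889, 685, 523, 389, 305, 227, 167, 105, 65, 23]

theorem loop139_ok : CX.cert.pathOK 59213 loopPath139 loopWord139 = true := by decide +kernel

def loopWord140 : List ℕ := [1, 0, 2, 3, 4, 5, 6, 7, 10, 5, 6, 11, 10, 5, 4, 3, 1, 3, 4, 5, 10, 11, 6, 5, 10, 7, 6, 5, 4, 3, 1, 2, 0, 1]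

def loopPath140 : List ℕ := [22, 42, 84, 146, 206, 286, 366, 478, 632, 822, 1082, 1410, 1848, 2428, 3336, 4310, 5161, 5157, 3983, 2971, 2255, 1723, 1315, 1015, 767, 587, 457, 349, 267, 187, 125, 85, 43, 23]

theorem loop140_ok : CX.cert.pathOK 59213 loopPath140 loopWord140 = true := by decide +kernel

def loopWord141 : List ℕ := [1, 0, 2, 3, 4, 5, 6, 7, 10, 5, 6, 11, 10, 5, 4, 3, 2, 2, 3, 4, 5, 10, 11, 6, 5, 10, 7, 6, 5, 4, 3, 2, 0, 1]

def loopPath141 : List ℕ := [22, 42, 84, 146, 206, 286, 366, 478, 632, 822, 1082, 1410, 1848, 2428, 3336, 4310, 5600, 5601, 4311, 3337, 2429, 1849, 1411, 1083, 823, 633, 479, 367, 287, 207, 147, 85, 43, 23]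

theorem loop141_ok : CX.cert.pathOK 59213 loopPath141 loopWord141 = true := by decide +kernel

def loopWord142 : List ℕ := [1, 2, 3, 4, 5, 6, 7, 10, 5, 6, 11, 10, 5, 4, 3, 2, 5, 6, 7, 10, 5, 6, 11, 10, 5, 4, 5, 10, 11, 6, 5, 10, 7, 6, 5, 2, 3, 4, 5, 10, 11, 6, 5, 10, 7, 6, 5, 4, 3, 2, 1]

def loopPath142 : List ℕ := [22, 64, 104, 166, 226, 304, 388, 522, 684, 888, 1166, 1534, 1996, 2644, 3616, 4704, 6095, 7886, 10066, 12695, 15835, 31849, 18116, 14654, 11768, 9305, 11769, 14655, 18117, 31848, 15834, 12694, 10067, 7887, 6094, 4705, 3617, 2645, 1997, 1535, 1167, 889, 685, 523, 389, 305, 227, 167, 105, 65, 23]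

theorem loop142_ok : CX.cert.pathOK 59213 loopPath142 loopWord142 = true := by decide +kernel

def loopWord143 : List ℕ := [1, 2, 3, 4, 5, 6, 7, 10, 5, 6, 11, 10, 5, 4, 3, 2, 5, 6, 4, 5, 7, 6, 10, 11, 5, 4, 10, 5, 2, 3, 4, 5, 10, 11, 6, 5, 10, 7, 6, 5, 4, 3, 2, 1]

def loopPath143 : List ℕ := [22, 64, 104, 166, 226, 304, 388, 522, 684, 888, 1166, 1534, 1996, 2644, 3616, 4704, 6095, 7886, 10003, 12640, 32342, 14527, 14503, 14504, 12584, 9980, 7862, 6094, 4705, 3617, 2645, 1997, 1535, 1167, 889, 685, 523, 389, 305, 227, 167, 105, 65, 23]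

theorem loop143_ok : CX.cert.pathOK 59213 loopPath143 loopWord143 = true := by decide +kernel

def loopWord144 : List ℕ := [1, 2, 3, 4, 5, 6, 7, 10, 5, 6, 11, 10, 5, 4, 3, 2, 5, 6, 7, 8, 7, 6, 5, 9, 8, 10, 5, 6, 7, 8, 11, 10, 5, 6, 7, 4, 5, 4, 10, 11, 6, 5, 4, 10, 6, 7, 8, 9, 5, 6, 7, 8, 2, 3, 4, 5, 10, 11, 6, 5, 10, 7, 6, 5, 4, 3, 2, 1]

def loopPath144 : List ℕ := [22, 64, 104, 166, 226, 304, 388, 522, 684, 888, 1166, 1534, 1996, 2644, 3616, 4704, 6095, 7886, 10066, 12716, 15617, 19365, 24005, 29556, 35395, 41876, 49119, 109099, 66575, 66576, 57057, 48731, 41424, 41375, 41373, 40931, 48142, 56416, 65854, 110469, 57833, 49357, 41914, 35437, 28439, 23151, 18714, 15112, 12535, 9919, 7762, 6008, 4705, 3617, 2645, 1997, 1535, 1167, 889, 685, 523, 389, 305, 227, 167, 105, 65, 23]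

theorem loop144_ok : CX.cert.pathOK 59213 loopPath144 loopWord144 = true := by decide +kernel

def loopWord145 : List ℕ := [1, 2, 3, 4, 5, 6, 7, 10, 5, 6, 11, 10, 5, 4, 3, 2, 0, 2, 3, 4, 5, 10, 11, 6, 5, 10, 7, 6, 5, 4, 3, 2, 0, 1]

def loopPath145 : List ℕ := [22, 64, 104, 166, 226, 304, 388, 522, 684, 888, 1166, 1534, 1996, 2644, 3616, 4704, 5603, 5601, 4311, 3337, 2429, 1849, 1411, 1083, 823, 633, 479, 367, 287, 207, 147, 85, 43, 23]

theorem loop145_ok : CX.cert.pathOK 59213 loopPath145 loopWord145 = true := by decide +kernel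

def loopWord146 : List ℕ := [1, 2, 3, 4, 5, 6, 7, 10, 5, 6, 11, 10, 5, 4, 3, 2, 1, 1, 2, 3, 4, 5, 10, 11, 6, 5, 10, 7, 6, 5, 4, 3, 2, 1]

def loopPath146 : List ℕ := [22, 64, 104, 166, 226, 304, 388, 522, 684, 888, 1166, 1534, 1996, 2644, 3616, 4704, 6104, 6105, 4705, 3617, 2645, 1997, 1535, 1167, 889, 685, 523, 389, 305, 227, 167, 105, 65, 23]

theorem loop146_ok : CX.cert.pathOK 59213 loopPath146 loopWord146 = true := by decide +kernel

def loopWord147 : List ℕ := [1, 2, 3, 4, 5, 6, 7, 10, 5, 6, 11, 10, 5, 4, 3, 2, 2, 3, 4, 5, 10, 11, 6, 5, 10, 7, 6, 5, 4, 3, 2, 1]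

def loopPath147 : List ℕ := [22, 64, 104, 166, 226, 304, 388, 522, 684, 888, 1166, 1534, 1996, 2644, 3616, 4704, 4705, 3617, 2645, 1997, 1535, 1167, 889, 685, 523, 389, 305, 227, 167, 105, 65, 23]

theorem loop147_ok : CX.cert.pathOK 59213 loopPath147 loopWord147 = true := by decide +kernel

def loopWord148 : List ℕ := [1, 0, 2, 1, 3, 4, 5, 6, 7, 10, 5, 6, 11, 10, 5, 4, 3, 5, 6, 7, 10, 5, 6, 11, 10, 5, 4, 5, 10, 11, 6, 5, 10, 7, 6, 5, 3, 4, 5, 10, 11, 6, 5, 10, 7, 6, 5, 4, 3, 1, 2, 0, 1]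

def loopPath148 : List ℕ := [22, 42, 84, 124, 186, 266, 348, 456, 586, 766, 1014, 1314, 1722, 2254, 2970, 3982, 5156, 6689, 8596, 10940, 13699, 31871, 17001, 13676, 10916, 8594, 6693, 8595, 10917, 13677, 17000, 31870, 13698, 10941, 8597, 6688, 5157, 3983, 2971, 2255, 1723, 1315, 1015, 767, 587, 457, 349, 267, 187, 125, 85, 43, 23]

theorem loop148_ok : CX.cert.pathOK 59213 loopPath148 loopWord148 = true := by decide +kernel

def loopWord149 : List ℕ := [1, 0, 2, 1, 3, 4, 5, 6, 7, 10, 5, 6, 11, 10, 5, 4, 3, 5, 6, 4, 5, 7, 6, 10, 11, 5, 4, 10, 5, 3, 4, 5, 10, 11, 6, 5, 10, 7, 6, 5, 4, 3, 1, 2, 0, 1]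

def loopPath149 : List ℕ := [22, 42, 84, 124, 186, 266, 348, 456, 586, 766, 1014, 1314, 1722, 2254, 2970, 3982, 5156, 6689, 8596, 10895, 13656, 32347, 12555, 12547, 13599, 13592, 10874, 8582, 6688, 5157, 3983, 2971, 2255, 1723, 1315, 1015, 767, 587, 457, 349, 267, 187, 125, 85, 43, 23]

theorem loop149_ok : CX.cert.pathOK 59213 loopPath149 loopWord149 = true := by decide +kernel

def loopWord150 : List ℕ := [1, 0, 2, 1, 3, 4, 5, 6, 7, 10, 5, 6, 11, 10, 5, 4, 3, 5, 6, 7, 8, 7, 6, 5, 9, 8, 10, 5, 6, 7, 8, 11, 10, 5, 6, 7, 4, 5, 4, 10, 11, 6, 5, 4, 10, 6, 7, 8, 9, 5, 6, 7, 8, 3, 4, 5, 10, 11, 6, 5, 10, 7, 6, 5, 4, 3, 1, 2, 0, 1]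

def loopPath150 : List ℕ := [22, 42, 84, 124, 186, 266, 348, 456, 586, 766, 1014, 1314, 1722, 2254, 2970, 3982, 5156, 6689, 8596, 10940, 13714, 16847, 20863, 25745, 31486, 37757, 44608, 52277, 109173, 70603, 70604, 60773, 51979, 44268, 44239, 44237, 43991, 51672, 60402, 110304, 109951, 61219, 52385, 44612, 37771, 30775, 25163, 20390, 16492, 13577, 10829, 8510, 6616, 5157, 3983, 2971, 2255, 1723, 1315, 1015, 767, 587, 457, 349, 267, 187, 125, 85, 43, 23]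

theorem loop150_ok : CX.cert.pathOK 59213 loopPath150 loopWord150 = true := by decide +kernel

def loopWord151 : List ℕ := [1, 0, 2, 1, 3, 4, 5, 6, 7, 10, 5, 6, 11, 10, 5, 4, 3, 0, 3, 4, 5, 10, 11, 6, 5, 10, 7, 6, 5, 4, 3, 1, 2, 0, 1]

def loopPath151 : List ℕ := [22, 42, 84, 124, 186, 266, 348, 456, 586, 766, 1014, 1314, 1722, 2254, 2970, 3982, 5156, 5159, 5157, 3983, 2971, 2255, 1723, 1315, 1015, 767, 587, 457, 349, 267, 187, 125, 85, 43, 23]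

theorem loop151_ok : CX.cert.pathOK 59213 loopPath151 loopWord151 = true := by decide +kernel

def loopWord152 : List ℕ := [1, 0, 2, 1, 3, 4, 5, 6, 7, 10, 5, 6, 11, 10, 5, 4, 3, 1, 3, 4, 5, 10, 11, 6, 5, 10, 7, 6, 5, 4, 3, 2, 0, 1]

def loopPath152 : List ℕ := [22, 42, 84, 124, 186, 266, 348, 456, 586, 766, 1014, 1314, 1722, 2254, 2970, 3982, 5156, 5160, 4311, 3337, 2429, 1849, 1411, 1083, 823, 633, 479, 367, 287, 207, 147, 85, 43, 23]

theorem loop152_ok : CX.cert.pathOK 59213 loopPath152 loopWord152 = true := by decide +kernel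

def loopWord153 : List ℕ := [1, 0, 2, 1, 3, 4, 5, 6, 7, 10, 5, 6, 11, 10, 5, 4, 3, 2, 5, 10, 11, 6, 5, 10, 7, 6, 5, 3, 4, 5, 10, 11, 6, 5, 10, 7, 6, 5, 4, 3, 1, 2, 0, 1]

def loopPath153 : List ℕ := [22, 42, 84, 124, 186, 266, 348, 456, 586, 766, 1014, 1314, 1722, 2254, 2970, 3982, 5156, 6690, 8595, 10917, 13677, 17000, 31870, 13698, 10941, 8597, 6688, 5157, 3983, 2971, 2255, 1723, 1315, 1015, 767, 587, 457, 349, 267, 187, 125, 85, 43, 23]

theorem loop153_ok : CX.cert.pathOK 59213 loopPath153 loopWord153 = true := by decide +kernel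

def loopWord154 : List ℕ := [1, 0, 2, 3, 4, 5, 6, 7, 10, 5, 6, 11, 10, 5, 4, 3, 2, 5, 6, 7, 10, 5, 6, 11, 10, 5, 4, 5, 10, 11, 6, 5, 10, 7, 6, 5, 2, 3, 4, 5, 10, 11, 6, 5, 10, 7, 6, 5, 4, 3, 2, 0, 1]

def loopPath154 : List ℕ := [22, 42, 84, 146, 206, 286, 366, 478, 632, 822, 1082, 1410, 1848, 2428, 3336, 4310, 5600, 7247, 9292, 11772, 14667, 31745, 18119, 14626, 11736, 9290, 7259, 9291, 11737, 14627, 18118, 31744, 14666, 11773, 9293, 7246, 5601, 4311, 3337, 2429, 1849, 1411, 1083, 823, 633, 479, 367, 287, 207, 147, 85, 43, 23]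

theorem loop154_ok : CX.cert.pathOK 59213 loopPath154 loopWord154 = true := by decide +kernel

def loopWord155 : List ℕ := [1, 0, 2, 3, 4, 5, 6, 7, 10, 5, 6, 11, 10, 5, 4, 3, 2, 5, 6, 4, 5, 7, 6, 10, 11, 5, 4, 10, 5, 2, 3, 4, 5, 10, 11, 6, 5, 10, 7, 6, 5, 4, 3, 2, 0, 1]

def loopPath155 : List ℕ := [22, 42, 84, 146, 206, 286, 366, 478, 632, 822, 1082, 1410, 1848, 2428, 3336, 4310, 5600, 7247, 9292, 11689, 14608, 32398, 12579, 12561, 14535, 14532, 11666, 9266, 7246, 5601, 4311, 3337, 2429, 1849, 1411, 1083, 823, 633, 479, 367, 287, 207, 147, 85, 43, 23]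

theorem loop155_ok : CX.cert.pathOK 59213 loopPath155 loopWord155 = true := by decide +kernel

def loopWord156 : List ℕ := [1, 0, 2, 3, 4, 5, 6, 7, 10, 5, 6, 11, 10, 5, 4, 3, 2, 5, 6, 7, 8, 7, 6, 5, 9, 8, 10, 5, 6, 7, 8, 11, 10, 5, 6, 7, 4, 5, 4, 10, 11, 6, 5, 4, 10, 6, 7, 8, 9, 5, 6, 7, 8, 2, 3, 4, 5, 10, 11, 6, 5, 10, 7, 6, 5, 4, 3, 2, 0, 1]

def loopPath156 : List ℕ := [22, 42, 84, 146, 206, 286, 366, 478, 632, 822, 1082, 1410, 1848, 2428, 3336, 4310, 5600, 7247, 9292, 11772, 14686, 17947, 22173, 27277, 34224, 39511, 46618, 54543, 109327, 73449, 73450, 63417, 54269, 46284, 46247, 46245, 45923, 53838, 62956, 110434, 109947, 63839, 54651, 46632, 39535, 33369, 26573, 21582, 17460, 14487, 11599, 9158, 7148, 5601, 4311, 3337, 2429, 1849, 1411, 1083, 823, 633, 479, 367, 287, 207, 147, 85, 43, 23]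

theorem loop156_ok : CX.cert.pathOK 59213 loopPath156 loopWord156 = true := by decide +kernel

def loopWord157 : List ℕ := [1, 0, 2, 3, 4, 5, 6, 7, 10, 5, 6, 11, 10, 5, 4, 3, 2, 0, 2, 3, 4, 5, 10, 11, 6, 5, 10, 7, 6, 5, 4, 3, 2, 1]

def loopPath157 : List ℕ := [22, 42, 84, 146, 206, 286, 366, 478, 632, 822, 1082, 1410, 1848, 2428, 3336, 4310, 5600, 5602, 4705, 3617, 2645, 1997, 1535, 1167, 889, 685, 523, 389, 305, 227, 167, 105, 65, 23]

theorem loop157_ok : CX.cert.pathOK 59213 loopPath157 loopWord157 = true := by decide +kernel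

def loopWord158 : List ℕ := [1, 0, 2, 3, 4, 5, 6, 7, 10, 5, 6, 11, 10, 5, 4, 3, 2, 1, 5, 10, 11, 6, 5, 10, 7, 6, 5, 2, 3, 4, 5, 10, 11, 6, 5, 10, 7, 6, 5, 4, 3, 2, 0, 1]

def loopPath158 : List ℕ := [22, 42, 84, 146, 206, 286, 366, 478, 632, 822, 1082, 1410, 1848, 2428, 3336, 4310, 5600, 7256, 9291, 11737, 14627, 18118, 31744, 14666, 11773, 9293, 7246, 5601, 4311, 3337, 2429, 1849, 1411, 1083, 823, 633, 479, 367, 287, 207, 147, 85, 43, 23]

theorem loop158_ok : CX.cert.pathOK 59213 loopPath158 loopWord158 = true := by decide +kernel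

def loopWord159 : List ℕ := [1, 0, 2, 3, 4, 5, 6, 7, 10, 5, 6, 11, 10, 5, 4, 3, 2, 2, 3, 4, 5, 10, 11, 6, 5, 10, 7, 6, 5, 4, 3, 2, 0, 1]

def loopPath159 : List ℕ := [22, 42, 84, 146, 206, 286, 366, 478, 632, 822, 1082, 1410, 1848, 2428, 3336, 4310, 5600, 5601, 4311, 3337, 2429, 1849, 1411, 1083, 823, 633, 479, 367, 287, 207, 147, 85, 43, 23]

theorem loop159_ok : CX.cert.pathOK 59213 loopPath159 loopWord159 = true := by decide +kernel

end CfsgLib.Spor.Fi24
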