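/-
Closed paths among the derived equations, found by a computer search.
-/
import Cfsg.Agent.Lib.Spor.Fi24Pres.CX.Data
import Cfsg.Agent.Lib.Spor.TC.CheckWide

namespace CfsgLib.Spor.Fi24

open CfsgLib.Spor.TC

set_option maxRecDepth 100000

def loopWord200 : List ℕ := [1, 3, 1]

def loopPath200 : List ℕ := [22, 25, 23]

theorem loop200_ok : CX.cert.pathOK 59213 loopPath200 loopWord200 = true := by decide +kernel

def loopWord201 : List ℕ := [1, 0, 3, 0, 1]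

def loopPath201 : List ℕ := [22, 42, 47, 43, 23]

theorem loop201_ok : CX.cert.pathOK 59213 loopPath201 loopWord201 = true := by decide +kernel

def loopWord202 : List ℕ := [1, 2, 3, 3, 2, 1]

def loopPath202 : List ℕ := [22, 64, 104, 105, 65, 23]

theorem loop202_ok : CX.cert.pathOK 59213 loopPath202 loopWord202 = true := by decide +kernel

def loopWord203 : List ℕ := [1, 0, 2, 3, 3, 2, 0, 1]

def loopPath203 : List ℕ := [22, 42, 84, 146, 147, 85, 43, 23]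

theorem loop203_ok : CX.cert.pathOK 59213 loopPath203 loopWord203 = true := by decide +kernel

def loopWord204 : List ℕ := [1, 2, 3, 3, 2, 1]

def loopPath204 : List ℕ := [22, 64, 104, 105, 65, 23]

theorem loop204_ok : CX.cert.pathOK 59213 loopPath204 loopWord204 = true := by decide +kernel

def loopWord205 : List ℕ := [1, 2, 3, 4, 3, 4, 3, 2, 1]

def loopPath205 : List ℕ := [22, 64, 104, 166, 173, 167, 105, 65, 23]

theorem loop205_ok : CX.cert.pathOK 59213 loopPath205 loopWord205 = true := by decide +kernel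

def loopWord206 : List ℕ := [1, 2, 3, 4, 5, 6, 10, 5, 4, 3, 3, 4, 5, 10, 6, 5, 4, 3, 2, 1]

def loopPath206 : List ℕ := [22, 64, 104, 166, 226, 304, 406, 536, 696, 910, 911, 697, 537, 407, 305, 227, 167, 105, 65, 23]

theorem loop206_ok : CX.cert.pathOK 59213 loopPath206 loopWord206 = true := by decide +kernel

def loopWord207 : List ℕ := [1, 2, 3, 4, 5, 6, 7, 10, 5, 6, 11, 10, 5, 4, 3, 3, 4, 5, 10, 11, 6, 5, 10, 7, 6, 5, 4, 3, 2, 1]

def loopPath207 : List ℕ := [22, 64, 104, 166, 226, 304, 388, 522, 684, 888, 1166, 1534, 1996, 2644, 3616, 3617, 2645, 1997, 1535, 1167, 889, 685, 523, 389, 305, 227, 167, 105, 65, 23]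

theorem loop207_ok : CX.cert.pathOK 59213 loopPath207 loopWord207 = true := by decide +kernel

def loopWord208 : List ℕ := [1, 2, 3, 4, 5, 6, 7, 10, 5, 6, 4, 5, 8, 7, 6, 10, 5, 4, 3, 4, 5, 10, 6, 7, 8, 5, 4, 6, 5, 10, 7, 6, 5, 4, 3, 2, 1]

def loopPath208 : List ℕ := [22, 64, 104, 166, 226, 304, 388, 522, 684, 888, 1157, 1514, 1911, 2518, 3482, 4548, 5920, 7670, 7673, 7671, 5921, 4549, 3483, 2519, 1910, 1515, 1156, 889, 685, 523, 389, 305, 227, 167, 105, 65, 23]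

theorem loop208_ok : CX.cert.pathOK 59213 loopPath208 loopWord208 = true := by decide +kernel

def loopWord209 : List ℕ := [1, 2, 3, 4, 5, 6, 7, 8, 10, 5, 6, 7, 11, 10, 5, 6, 4, 5, 9, 8, 7, 6, 10, 5, 4, 3, 4, 11, 5, 10, 5, 4, 6, 5, 4, 10, 11, 7, 8, 9, 6, 7, 8, 5, 6, 7, 3, 4, 5, 10, 6, 5, 4, 3, 2, 1]

def loopPath209 : List ℕ := [22, 64, 104, 166, 226, 304, 388, 504, 668, 860, 1126, 1472, 1926, 2560, 3532, 4612, 6003, 7768, 9615, 12131, 15096, 18724, 23164, 28456, 35456, 41934, 49383, 110666, 56244, 48053, 40831, 34528, 27717, 22593, 18282, 14829, 11915, 9419, 7353, 5666, 4491, 3441, 2500, 1961, 1501, 1150, 911, 697, 537, 407, 305, 227, 167, 105, 65, 23]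

theorem loop209_ok : CX.cert.pathOK 59213 loopPath209 loopWord209 = true := by decide +kernel

def loopWord210 : List ℕ := [1, 0, 2, 1, 3, 3, 1, 2, 0, 1]

def loopPath210 : List ℕ := [22, 42, 84, 124, 186, 187, 125, 85, 43, 23]

theorem loop210_ok : CX.cert.pathOK 59213 loopPath210 loopWord210 = true := by decide +kernel

def loopWord211 : List ℕ := [1, 0, 2, 3, 3, 2, 0, 1]

def loopPath211 : List ℕ := [22, 42, 84, 146, 147, 85, 43, 23]

theorem loop211_ok : CX.cert.pathOK 59213 loopPath211 loopWord211 = true := by decide +kernel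

def loopWord212 : List ℕ := [1, 0, 2, 3, 4, 3, 4, 3, 2, 0, 1]

def loopPath212 : List ℕ := [22, 42, 84, 146, 206, 213, 207, 147, 85, 43, 23]

theorem loop212_ok : CX.cert.pathOK 59213 loopPath212 loopWord212 = true := by decide +kernel

def loopWord213 : List ℕ := [1, 0, 2, 3, 4, 5, 6, 10, 5, 4, 3, 3, 4, 5, 10, 6, 5, 4, 3, 2, 0, 1]

def loopPath213 : List ℕ := [22, 42, 84, 146, 206, 286, 366, 494, 644, 834, 1090, 1091, 835, 645, 495, 367, 287, 207, 147, 85, 43, 23]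

theorem loop213_ok : CX.cert.pathOK 59213 loopPath213 loopWord213 = true := by decide +kernel

def loopWord214 : List ℕ := [1, 0, 2, 3, 4, 5, 6, 7, 10, 5, 6, 11, 10, 5, 4, 3, 3, 4, 5, 10, 11, 6, 5, 10, 7, 6, 5, 4, 3, 2, 0, 1]

def loopPath214 : List ℕ := [22, 42, 84, 146, 206, 286, 366, 478, 632, 822, 1082, 1410, 1848, 2428, 3336, 4310, 4311, 3337, 2429, 1849, 1411, 1083, 823, 633, 479, 367, 287, 207, 147, 85, 43, 23]

theorem loop214_ok : CX.cert.pathOK 59213 loopPath214 loopWord214 = true := by decide +kernel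

def loopWord215 : List ℕ := [1, 0, 2, 3, 4, 5, 6, 7, 10, 5, 6, 4, 5, 8, 7, 6, 10, 5, 4, 3, 4, 5, 10, 6, 7, 8, 5, 4, 6, 5, 10, 7, 6, 5, 4, 3, 2, 0, 1]

def loopPath215 : List ℕ := [22, 42, 84, 146, 206, 286, 366, 478, 632, 822, 1082, 1405, 1832, 2333, 3070, 4148, 5416, 7044, 9048, 9051, 9049, 7045, 5417, 4149, 3071, 2332, 1833, 1404, 1083, 823, 633, 479, 367, 287, 207, 147, 85, 43, 23]

theorem loop215_ok : CX.cert.pathOK 59213 loopPath215 loopWord215 = true := by decide +kernel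

def loopWord216 : List ℕ := [1, 0, 2, 3, 4, 5, 6, 7, 8, 10, 5, 6, 7, 11, 10, 5, 6, 4, 5, 9, 8, 7, 6, 10, 5, 4, 3, 4, 11, 5, 10, 5, 4, 6, 5, 4, 10, 11, 7, 8, 9, 6, 7, 8, 5, 6, 7, 3, 4, 5, 10, 6, 5, 4, 3, 2, 0, 1]

def loopPath216 : List ℕ := [22, 42, 84, 146, 206, 286, 366, 478, 614, 806, 1052, 1376, 1792, 2352, 3122, 4214, 5496, 7143, 9166, 11279, 14091, 17452, 21592, 26586, 33386, 39554, 46652, 54673, 110626, 62742, 53721, 45783, 38774, 32735, 26069, 21170, 17187, 13861, 11055, 8689, 6756, 5353, 4105, 3052, 2387, 1823, 1396, 1091, 835, 645, 495, 367, 287, 207, 147, 85, 43, 23]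

theorem loop216_ok : CX.cert.pathOK 59213 loopPath216 loopWord216 = true := by decide +kernel

def loopWord217 : List ℕ := [1, 0, 2, 1, 3, 3, 1, 2, 0, 1]

def loopPath217 : List ℕ := [22, 42, 84, 124, 186, 187, 125, 85, 43, 23]

theorem loop217_ok : CX.cert.pathOK 59213 loopPath217 loopWord217 = true := by decide +kernel

def loopWord218 : List ℕ := [1, 0, 2, 1, 3, 4, 3, 4, 3, 1, 2, 0, 1]

def loopPath218 : List ℕ := [22, 42, 84, 124, 186, 266, 273, 267, 187, 125, 85, 43, 23]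

theorem loop218_ok : CX.cert.pathOK 59213 loopPath218 loopWord218 = true := by decide +kernel

def loopWord219 : List ℕ := [1, 0, 2, 1, 3, 4, 5, 6, 10, 5, 4, 3, 3, 4, 5, 10, 6, 5, 4, 3, 1, 2, 0, 1]

def loopPath219 : List ℕ := [22, 42, 84, 124, 186, 266, 348, 456, 604, 780, 1024, 1330, 1331, 1025, 781, 605, 457, 349, 267, 187, 125, 85, 43, 23]

theorem loop219_ok : CX.cert.pathOK 59213 loopPath219 loopWord219 = true := by decide +kernel

def loopWord220 : List ℕ := [1, 0, 2, 1, 3, 4, 5, 6, 7, 10, 5, 6, 11, 10, 5, 4, 3, 3, 4, 5, 10, 11, 6, 5, 10, 7, 6, 5, 4, 3, 1, 2, 0, 1]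

def loopPath220 : List ℕ := [22, 42, 84, 124, 186, 266, 348, 456, 586, 766, 1014, 1314, 1722, 2254, 2970, 3982, 5156, 5157, 3983, 2971, 2255, 1723, 1315, 1015, 767, 587, 457, 349, 267, 187, 125, 85, 43, 23]

theorem loop220_ok : CX.cert.pathOK 59213 loopPath220 loopWord220 = true := by decide +kernel

def loopWord221 : List ℕ := [1, 0, 2, 1, 3, 4, 5, 6, 7, 10, 5, 6, 4, 5, 11, 10, 5, 6, 7, 4, 5, 6, 11, 10, 5, 4, 3, 4, 5, 10, 11, 6, 5, 4, 7, 6, 5, 10, 11, 5, 4, 6, 5, 10, 7, 6, 5, 4, 3, 1, 2, 0, 1]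

def loopPath221 : List ℕ := [22, 42, 84, 124, 186, 266, 348, 456, 586, 766, 1014, 1314, 1713, 2238, 2956, 3972, 5142, 6684, 8590, 10933, 13705, 32035, 16122, 12954, 10302, 10109, 10107, 10108, 10303, 12955, 16123, 32034, 13704, 10932, 8591, 6685, 5143, 3973, 2957, 2239, 1712, 1315, 1015, 767, 587, 457, 349, 267, 187, 125, 85, 43, 23]

theorem loop221_ok : CX.cert.pathOK 59213 loopPath221 loopWord221 = true := by decide +kernel

def loopWord222 : List ℕ := [1, 0, 2, 1, 3, 4, 5, 6, 7, 8, 10, 5, 6, 7, 11, 10, 5, 6, 4, 5, 9, 8, 7, 6, 10, 5, 4, 3, 4, 11, 5, 10, 5, 4, 6, 5, 4, 10, 11, 7, 8, 9, 6, 7, 8, 5, 6, 7, 3, 4, 5, 10, 6, 5, 4, 3, 1, 2, 0, 1]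

def loopPath222 : List ℕ := [22, 42, 84, 124, 186, 266, 348, 456, 586, 748, 998, 1286, 1680, 2196, 2904, 3900, 5072, 6608, 8517, 10840, 13273, 16471, 20392, 25166, 30778, 37774, 44628, 52394, 61229, 110578, 69842, 60195, 51489, 43842, 37101, 30205, 24702, 20101, 16223, 13029, 10353, 8126, 6449, 4947, 3820, 2929, 2223, 1706, 1331, 1025, 781, 605, 457, 349, 267, 187, 125, 85, 43, 23]

theorem loop222_ok : CX.cert.pathOK 59213 loopPath222 loopWord222 = true := by decide +kernel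

def loopWord223 : List ℕ := [1, 0, 2, 1, 3, 2, 3, 2, 3, 1, 2, 0, 1]

def loopPath223 : List ℕ := [22, 42, 84, 124, 186, 244, 251, 245, 187, 125, 85, 43, 23]

theorem loop223_ok : CX.cert.pathOK 59213 loopPath223 loopWord223 = true := by decide +kernel

def loopWord224 : List ℕ := [1, 0, 2, 1, 3, 2, 4, 3, 3, 4, 2, 3, 1, 2, 0, 1]

def loopPath224 : List ℕ := [22, 42, 84, 124, 186, 244, 328, 418, 419, 329, 245, 187, 125, 85, 43, 23]

theorem loop224_ok : CX.cert.pathOK 59213 loopPath224 loopWord224 = true := by decide +kernel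

def loopWord225 : List ℕ := [1, 0, 2, 1, 3, 2, 4, 5, 6, 10, 5, 4, 3, 4, 5, 10, 6, 5, 4, 2, 3, 1, 2, 0, 1]

def loopPath225 : List ℕ := [22, 42, 84, 124, 186, 244, 328, 440, 566, 742, 972, 1258, 3183, 1259, 973, 743, 567, 441, 329, 245, 187, 125, 85, 43, 23]

theorem loop225_ok : CX.cert.pathOK 59213 loopPath225 loopWord225 = true := by decide +kernel

def loopWord226 : List ℕ := [1, 0, 2, 1, 3, 2, 4, 5, 6, 7, 10, 5, 6, 11, 10, 5, 4, 3, 5, 10, 11, 6, 5, 4, 7, 6, 5, 10, 11, 5, 4, 6, 5, 10, 7, 6, 5, 4, 2, 3, 1, 2, 0, 1]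

def loopPath226 : List ℕ := [22, 42, 84, 124, 186, 244, 328, 440, 566, 728, 966, 1248, 1638, 2132, 2814, 3748, 4846, 6286, 8087, 10291, 12949, 16124, 32030, 12962, 10299, 8079, 6265, 4831, 3727, 2793, 2122, 1639, 1249, 967, 729, 567, 441, 329, 245, 187, 125, 85, 43, 23]

theorem loop226_ok : CX.cert.pathOK 59213 loopPath226 loopWord226 = true := by decide +kernel

def loopWord227 : List ℕ := [1, 0, 2, 1, 3, 2, 4, 5, 6, 7, 10, 5, 6, 4, 5, 11, 10, 5, 6, 7, 4, 5, 6, 11, 10, 5, 4, 3, 4, 5, 10, 11, 6, 5, 10, 7, 6, 5, 3, 4, 2, 3, 1, 2, 0, 1]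

def loopPath227 : List ℕ := [22, 42, 84, 124, 186, 244, 328, 440, 566, 728, 966, 1248, 1638, 2123, 2792, 3726, 4830, 6264, 8078, 10298, 12963, 32031, 16125, 12948, 10290, 8086, 7931, 7929, 6141, 4737, 3657, 2721, 2065, 1591, 1211, 935, 717, 553, 419, 329, 245, 187, 125, 85, 43, 23]

theorem loop227_ok : CX.cert.pathOK 59213 loopPath227 loopWord227 = true := by decide +kernel

def loopWord228 : List ℕ := [1, 0, 2, 1, 3, 2, 4, 5, 6, 7, 8, 10, 5, 6, 7, 11, 10, 5, 6, 4, 5, 9, 8, 7, 6, 10, 5, 4, 3, 4, 5, 10, 6, 7, 8, 9, 5, 4, 6, 5, 10, 11, 7, 6, 5, 10, 8, 7, 6, 5, 4, 2, 3, 1, 2, 0, 1]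

def loopPath228 : List ℕ := [22, 42, 84, 124, 186, 244, 328, 440, 566, 728, 952, 1236, 1616, 2102, 2770, 3708, 4812, 6244, 8058, 10273, 12942, 16003, 19825, 24472, 29948, 36808, 43488, 51112, 110031, 51113, 43489, 36809, 29949, 24473, 19824, 16002, 12943, 10272, 8059, 6245, 4813, 3709, 2771, 2103, 1617, 1237, 953, 729, 567, 441, 329, 245, 187, 125, 85, 43, 23]

theorem loop228_ok : CX.cert.pathOK 59213 loopPath228 loopWord228 = true := by decide +kernel

def loopWord229 : List ℕ := [1, 0, 2, 1, 3, 2, 4, 3, 3, 4, 2, 3, 1, 2, 0, 1]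

def loopPath229 : List ℕ := [22, 42, 84, 124, 186, 244, 328, 418, 419, 329, 245, 187, 125, 85, 43, 23]

theorem loop229_ok : CX.cert.pathOK 59213 loopPath229 loopWord229 = true := by decide +kernel

def loopWord230 : List ℕ := [1, 0, 2, 1, 3, 2, 4, 3, 5, 4, 3, 4, 5, 3, 4, 2, 3, 1, 2, 0, 1]

def loopPath230 : List ℕ := [22, 42, 84, 124, 186, 244, 328, 418, 552, 712, 715, 713, 553, 419, 329, 245, 187, 125, 85, 43, 23]

theorem loop230_ok : CX.cert.pathOK 59213 loopPath230 loopWord230 = true := by decide +kernel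

def loopWord231 : List ℕ := [1, 0, 2, 1, 3, 2, 4, 3, 5, 6, 7, 10, 5, 6, 11, 10, 5, 4, 3, 4, 5, 10, 11, 6, 5, 4, 7, 6, 5, 10, 11, 5, 4, 6, 5, 10, 7, 6, 5, 4, 2, 3, 1, 2, 0, 1]

def loopPath231 : List ℕ := [22, 42, 84, 124, 186, 244, 328, 418, 552, 716, 934, 1210, 1590, 2064, 2720, 3656, 4736, 6140, 7928, 7930, 8087, 10291, 12949, 16124, 32030, 12962, 10299, 8079, 6265, 4831, 3727, 2793, 2122, 1639, 1249, 967, 729, 567, 441, 329, 245, 187, 125, 85, 43, 23]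

theorem loop231_ok : CX.cert.pathOK 59213 loopPath231 loopWord231 = true := by decide +kernel

def loopWord232 : List ℕ := [1, 0, 2, 1, 3, 2, 4, 3, 5, 6, 7, 8, 10, 5, 6, 7, 11, 10, 5, 6, 4, 5, 9, 8, 7, 6, 10, 5, 11, 4, 3, 4, 11, 5, 10, 6, 7, 8, 9, 5, 4, 6, 5, 10, 11, 7, 6, 5, 10, 8, 7, 6, 5, 3, 4, 2, 3, 1, 2, 0, 1]

def loopPath232 : List ℕ := [22, 42, 84, 124, 186, 244, 328, 418, 552, 716, 934, 1198, 1578, 2046, 2698, 3636, 4718, 6124, 7914, 10096, 12743, 15880, 19689, 24331, 29814, 36664, 43334, 50956, 110053, 50966, 50969, 50967, 110052, 50957, 43335, 36665, 29815, 24330, 19688, 15881, 12742, 10097, 7915, 6125, 4719, 3637, 2699, 2047, 1579, 1199, 935, 717, 553, 419, 329, 245, 187, 125, 85, 43, 23]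

theorem loop232_ok : CX.cert.pathOK 59213 loopPath232 loopWord232 = true := by decide +kernel

def loopWord233 : List ℕ := [1, 2, 3, 4, 5, 6, 10, 5, 4, 3, 3, 4, 5, 10, 6, 5, 4, 3, 2, 1]

def loopPath233 : List ℕ := [22, 64, 104, 166, 226, 304, 406, 536, 696, 910, 911, 697, 537, 407, 305, 227, 167, 105, 65, 23]

theorem loop233_ok : CX.cert.pathOK 59213 loopPath233 loopWord233 = true := by decide +kernel

def loopWord234 : List ℕ := [1, 2, 3, 4, 5, 6, 10, 5, 4, 3, 7, 6, 5, 4, 3, 4, 5, 6, 7, 3, 4, 5, 10, 6, 5, 4, 3, 2, 1]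

def loopPath234 : List ℕ := [22, 64, 104, 166, 226, 304, 406, 536, 696, 910, 1151, 1500, 1960, 2604, 2607, 2605, 1961, 1501, 1150, 911, 697, 537, 407, 305, 227, 167, 105, 65, 23]

theorem loop234_ok : CX.cert.pathOK 59213 loopPath234 loopWord234 = true := by decide +kernel

def loopWord235 : List ℕ := [1, 2, 3, 4, 5, 6, 10, 5, 4, 3, 7, 6, 11, 10, 5, 4, 3, 4, 5, 3, 4, 5, 10, 11, 6, 5, 10, 7, 6, 5, 4, 3, 2, 1]

def loopPath235 : List ℕ := [22, 64, 104, 166, 226, 304, 406, 536, 696, 910, 1151, 1500, 1968, 2622, 3594, 4670, 6060, 6062, 4698, 3617, 2645, 1997, 1535, 1167, 889, 685, 523, 389, 305, 227, 167, 105, 65, 23]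

theorem loop235_ok : CX.cert.pathOK 59213 loopPath235 loopWord235 = true := by decide +kernel

def loopWord236 : List ℕ := [1, 2, 3, 4, 5, 6, 10, 5, 4, 3, 7, 6, 5, 8, 7, 6, 11, 10, 5, 4, 3, 4, 6, 5, 10, 11, 7, 6, 5, 10, 5, 6, 7, 8, 7, 6, 5, 3, 4, 5, 10, 11, 6, 5, 10, 7, 6, 5, 4, 3, 2, 1]

def loopPath236 : List ℕ := [22, 64, 104, 166, 226, 304, 406, 536, 696, 910, 1151, 1500, 1960, 2501, 3440, 4490, 5858, 7606, 9728, 12258, 15284, 15286, 15466, 19192, 23796, 29278, 36269, 108784, 29410, 24019, 19380, 15610, 12510, 10069, 7889, 6097, 4698, 3617, 2645, 1997, 1535, 1167, 889, 685, 523, 389, 305, 227, 167, 105, 65, 23]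

theorem loop236_ok : CX.cert.pathOK 59213 loopPath236 loopWord236 = true := by decide +kernel

def loopWord237 : List ℕ := [1, 2, 3, 4, 5, 6, 10, 5, 4, 3, 7, 6, 5, 8, 7, 6, 4, 5, 9, 8, 7, 6, 11, 10, 5, 4, 3, 6, 5, 4, 10, 11, 5, 10, 6, 7, 8, 9, 5, 4, 6, 5, 10, 11, 7, 6, 5, 10, 8, 7, 6, 5, 4, 3, 2, 1]

def loopPath237 : List ℕ := [22, 64, 104, 166, 226, 304, 406, 536, 696, 910, 1151, 1500, 1960, 2501, 3440, 4490, 5831, 7568, 9387, 11866, 14770, 18262, 22574, 27686, 34492, 40784, 47996, 56226, 110694, 49390, 41941, 35459, 28457, 23165, 18725, 15097, 12130, 9614, 7769, 6002, 4613, 3533, 2561, 1927, 1473, 1127, 861, 669, 505, 389, 305, 227, 167, 105, 65, 23]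

theorem loop237_ok : CX.cert.pathOK 59213 loopPath237 loopWord237 = true := by decide +kernel

def loopWord238 : List ℕ := [1, 2, 3, 4, 5, 6, 10, 5, 4, 3, 7, 6, 5, 8, 7, 6, 9, 8, 7, 10, 5, 6, 11, 10, 5, 4, 3, 4, 5, 10, 11, 6, 5, 10, 7, 8, 9, 6, 7, 8, 5, 6, 7, 3, 4, 5, 10, 6, 5, 4, 3, 2, 1]

def loopPath238 : List ℕ := [22, 64, 104, 166, 226, 304, 406, 536, 696, 910, 1151, 1500, 1960, 2501, 3440, 4490, 5667, 7352, 9418, 11910, 14822, 18326, 22642, 27770, 34596, 40904, 109995, 40905, 34597, 27771, 22643, 18327, 14823, 11911, 9419, 7353, 5666, 4491, 3441, 2500, 1961, 1501, 1150, 911, 697, 537, 407, 305, 227, 167, 105, 65, 23]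

theorem loop238_ok : CX.cert.pathOK 59213 loopPath238 loopWord238 = true := by decide +kernel

def loopWord239 : List ℕ := [1, 0, 2, 3, 4, 5, 6, 10, 5, 4, 3, 3, 4, 5, 10, 6, 5, 4, 3, 2, 0, 1]

def loopPath239 : List ℕ := [22, 42, 84, 146, 206, 286, 366, 494, 644, 834, 1090, 1091, 835, 645, 495, 367, 287, 207, 147, 85, 43, 23]

theorem loop239_ok : CX.cert.pathOK 59213 loopPath239 loopWord239 = true := by decide +kernel

end CfsgLib.Spor.Fi24
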